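import Groth.Agent.L24.KrullSchmidt.IsoDescent
import Groth.Agent.L24.GalPush.Sections
import Groth.Agent.L17.BC.TensorA
import Groth.Agent.L17.BC.PullSec
import Groth.Agent.L16.AffineBC.Local

/-!
# Homomorphisms of coherent modules after a field extension
-/

set_option autoImplicit false
set_option linter.style.haveILetI false
set_option backward.isDefEq.respectTransparency false
set_option backward.isDefEq.respectTransparency.types false

universe u

open CategoryTheory CategoryTheory.Limits AlgebraicGeometry TopologicalSpace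
open scoped TensorProduct
open Groth.L18.Frame (rs pull)
open Groth.L16.AffineBC (scal hom_ext_affine)

noncomputable section

namespace Groth.L24.SB

variable {k : Type u} [Field k] {X : Scheme.{u}} [X.Over (Spec (CommRingCat.of k))]
  {K : Type u} [Field K] [Algebra k K] {Y : Scheme.{u}} [Y.Over (Spec (CommRingCat.of K))] (g : Y ⟶ X)
  (sq : IsPullback g (Y ↘ Spec (CommRingCat.of K)) (X ↘ Spec (CommRingCat.of k))
    (Spec.map (CommRingCat.ofHom (algebraMap k K))))

include sq in
/-- Pullback is semilinear. -/
theorem pullback_map_smul {E E' : X.Modules} (c : k) (α : E ⟶ E') :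
    (Scheme.Modules.pullback g).map (c • α) = algebraMap k K c • (Scheme.Modules.pullback g).map α := by
  rw [KLin.smul_def, KLin.smul_def, Functor.map_comp]
  congr 1
  refine (Groth.L17.BC.TensorA.pullback_smulModΓ g E _).trans ?_
  exact congrArg (Formal.smulModΓ _) (Groth.L21.RR.appTop_toGlobal g sq c)

/-- The base change map on homomorphisms. -/
def homBC (E E' : X.Modules) : K ⊗[k] (E ⟶ E') →ₗ[K]
    ((Scheme.Modules.pullback g).obj E ⟶ (Scheme.Modules.pullback g).obj E') := by
  classical
  exact if h : ∀ (c : k) (α : E ⟶ E'),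
      (Scheme.Modules.pullback g).map (c • α) = algebraMap k K c • (Scheme.Modules.pullback g).map α then
    letI : Module k ((Scheme.Modules.pullback g).obj E ⟶ (Scheme.Modules.pullback g).obj E') :=
      Module.compHom _ (algebraMap k K)
    haveI : IsScalarTower k K ((Scheme.Modules.pullback g).obj E ⟶ (Scheme.Modules.pullback g).obj E') :=
      IsScalarTower.of_algebraMap_smul fun _ _ => rfl
    LinearMap.liftBaseChange K
      ({ toFun := fun α => (Scheme.Modules.pullback g).map α
         map_add' := fun _ _ => Functor.map_add _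
         map_smul' := h } : (E ⟶ E') →ₗ[k] _)
  else 0

include sq in
theorem homBC_tmul {E E' : X.Modules} (c : K) (α : E ⟶ E') :
    homBC (k := k) (K := K) g E E' (c ⊗ₜ[k] α) = c • (Scheme.Modules.pullback g).map α := by
  classical
  rw [homBC, dif_pos (pullback_map_smul g sq)]
  simp

include sq in
/-- The base change map on homomorphisms of coherent modules is bijective. -/
theorem bijective_homBC [IsProper (X ↘ Spec (CommRingCat.of k))] {E E' : X.Modules}
    (hE : Coh.IsCoh E) (hE' : Coh.IsCoh E') : Function.Bijective (homBC (k := k) (K := K) g E E') := by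
  classical
  haveI : Coh.IsQCoh E' := hE'.1
  haveI : Coh.IsQCoh E := hE.1
  refine ⟨(injective_iff_map_eq_zero _).2 fun z hz => ?_, fun f => ?_⟩
  · obtain ⟨ι, b⟩ : Σ' ι : Type u, Module.Basis ι k K := ⟨_, Module.Free.chooseBasis k K⟩
    let f := TensorProduct.equivFinsuppOfBasisLeft (N := E ⟶ E') b z
    have hz' : z = f.sum fun i α => b i ⊗ₜ[k] α :=
      ((TensorProduct.equivFinsuppOfBasisLeft (N := E ⟶ E') b).symm_apply_apply z).symm.trans
        (TensorProduct.equivFinsuppOfBasisLeft_symm_apply b f)
    suffices hf : ∀ i, f i = 0 by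
      rw [hz', Finsupp.sum]
      exact Finset.sum_eq_zero fun i _ => by rw [hf, TensorProduct.tmul_zero]
    intro i
    refine hom_ext_affine _ _ fun U hU m => ?_
    letI : Module k Γ(E', U) := Module.compHom Γ(E', U) (scal k X U)
    letI : Module K Γ((Scheme.Modules.pullback g).obj E', g ⁻¹ᵁ U) := Module.compHom _ (scal K Y (g ⁻¹ᵁ U))
    obtain ⟨Eq', hEq⟩ := Groth.L24.GalPush.exists_equiv_sq (algebraMap k K) g sq rfl E' hU
    let ev : ((Scheme.Modules.pullback g).obj E ⟶ (Scheme.Modules.pullback g).obj E') →+
        Γ((Scheme.Modules.pullback g).obj E', g ⁻¹ᵁ U) :=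
      AddMonoidHom.mk' (fun q => q.app (g ⁻¹ᵁ U) (pull g E U m)) fun q q' => by
        simp only [Scheme.Modules.Hom.add_app]
        rfl
    have h1 : ev (homBC (k := k) (K := K) g E E' z) = Eq' (f.sum fun j α => b j ⊗ₜ[k] (α.app U m)) := by
      rw [hz', Finsupp.sum, Finsupp.sum, map_sum, map_sum, map_sum]
      refine Finset.sum_congr rfl fun j _ => ?_
      rw [homBC_tmul g sq, hEq]
      refine (KLin.smul_app_apply (b j) ((Scheme.Modules.pullback g).map (f j)) (g ⁻¹ᵁ U) (pull g E U m)).trans ?_
      rw [Groth.L17.BC.PullSec.map_pull]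
      rfl
    rw [hz, map_zero] at h1
    have h2 := Eq'.injective (h1.symm.trans (map_zero Eq').symm)
    have h3 := congrArg (TensorProduct.equivFinsuppOfBasisLeft (N := Γ(E', U)) b) h2
    rw [map_zero, Finsupp.sum, map_sum] at h3
    have h4 := congrArg (fun q : ι →₀ Γ(E', U) => q i) h3
    simp only [Finsupp.coe_finsetSum, Finset.sum_apply, Finsupp.zero_apply] at h4
    rw [Finset.sum_eq_single i] at h4
    · simpa using h4
    · intro j _ hj
      simp [hj]
    · intro hi
      rw [Finsupp.notMem_support_iff.1 hi]
      simp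
  · obtain ⟨n, α, c, rfl⟩ := Groth.L24.KrullSchmidt.exists_sum_map_coh g sq hE hE' f
    exact ⟨∑ j, c j ⊗ₜ α j, by rw [map_sum]; exact Finset.sum_congr rfl fun j _ => homBC_tmul g sq _ _⟩

end Groth.L24.SB
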