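import Groth.Agent.L24.SB.Linear
import Groth.Agent.L24.SB.HomBase
import Groth.Agent.L16.ProjSpace.Basic
import Groth.Agent.L16.ProjSpace.BaseChange
import Groth.Agent.L16.ProjSpace.PosFrames
import Groth.Agent.L02.Quot.Mono
import Mathlib.LinearAlgebra.Matrix.Basis
import Groth.Prelude.Def_BrSev

/-!
# Forms of projective space carrying `O(1)` are projective spaces
-/

set_option autoImplicit false
set_option linter.style.haveILetI false
set_option backward.isDefEq.respectTransparency false
set_option backward.isDefEq.respectTransparency.types false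

universe u

open CategoryTheory CategoryTheory.Limits AlgebraicGeometry TopologicalSpace
open Groth.L18.PUP (P pr O1 T rT)

noncomputable section

namespace Groth.L24.SB

/-- Pullback of sections along an isomorphism is bijective. -/
theorem bijective_pullSec_of_isIso {Z Z' : Scheme.{u}} (g : Z ⟶ Z') [IsIso g] (F : Z'.Modules) :
    Function.Bijective fun s : Γ(F, ⊤) => ProjUP.pullSec g F s := by
  haveI : (Scheme.Modules.pushforward g).IsEquivalence :=
    (CategoryTheory.Equivalence.mk (Scheme.Modules.pushforward g) (Scheme.Modules.pushforward (inv g))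
      ((Scheme.Modules.pushforwardId Z).symm ≪≫
        Scheme.Modules.pushforwardCongr (IsIso.hom_inv_id g).symm ≪≫
        (Scheme.Modules.pushforwardComp g (inv g)).symm)
      (Scheme.Modules.pushforwardComp (inv g) g ≪≫
        Scheme.Modules.pushforwardCongr (IsIso.inv_hom_id g) ≪≫
        Scheme.Modules.pushforwardId Z')).isEquivalence_functor
  haveI : (Scheme.Modules.pullback g).IsEquivalence :=
    (Scheme.Modules.pullbackPushforwardAdjunction g).isEquivalence_left_of_isEquivalence_right
  have h : IsIso ((Scheme.Modules.pullbackPushforwardAdjunction g).unit.app F) := inferInstance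
  exact ConcreteCategory.bijective_of_isIso (((Scheme.Modules.pullbackPushforwardAdjunction g).unit.app F).app ⊤)

/-- Pulled back coordinates generate, and so do their images under isomorphisms. -/
theorem generatedBy_rT {R : Type u} [CommRing R] {m : ℕ} {Z : Scheme.{u}} (r : Z ⟶ P m R) {N : Z.Modules}
    (u : (Scheme.Modules.pullback r).obj (O1 m R) ≅ N) :
    ProjUP.GeneratedBy N fun i => u.hom.app ⊤ (rT r i) :=
  Groth.L18.SpecLine.generatedBy_of_frames (ι := Fin (m + 1)) _ fun x => by
    obtain ⟨i, hi⟩ := Opens.mem_iSup.mp ((Groth.L18.PS.iSup_chart (n := m) (R := R)).ge (trivial : r x ∈ ⊤))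
    refine ⟨r ⁻¹ᵁ Groth.L18.PUP.D i, i, hi, fun V hV => ?_⟩
    have h1 := Groth.L18.PUP.rT_frame r i V hV
    have e : (fun b : Γ(Z, V) => b • Groth.L18.Frame.rs N hV
        (Groth.L18.Frame.rs N le_top (u.hom.app ⊤ (rT r i)))) =
        u.hom.app V ∘ fun b => b • Groth.L18.Frame.rs _ hV
          (Groth.L18.Frame.rs ((Scheme.Modules.pullback r).obj (O1 m R)) le_top (rT r i)) := by
      funext b
      simp only [Function.comp_apply, Scheme.Modules.Hom.app_smul, Groth.L18.Frame.rs_rs]
      congr 1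
      exact (congr($(u.hom.mapPresheaf.naturality (homOfLE (le_top : V ≤ ⊤)).op) (rT r i))).symm
    show Function.Bijective _
    rw [e]
    exact (ConcreteCategory.bijective_of_isIso (u.hom.app V)).comp h1

theorem comb_comb {R : Type u} [CommRing R] {Z : Scheme.{u}} (q : Z ⟶ Spec (CommRingCat.of R)) {L : Z.Modules}
    {m m' : ℕ} (c : Fin m → R) (M : Fin m → Fin m' → R) (v : Fin m' → Γ(L, ⊤)) :
    comb q c (fun i => comb q (M i) v) = comb q (fun l => ∑ i, c i * M i l) v := by
  simp only [comb, Finset.smul_sum, map_sum, Finset.sum_smul, map_mul, mul_smul]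
  exact Finset.sum_comm

/-- A form of projective space on which `O(1)` is defined over the ground field is projective space. -/
theorem exists_iso_of_twist_one {k : Type u} [Field k] {X : Scheme.{u}} (f : X ⟶ Spec (CommRingCat.of k))
    [IsProper f] {n : ℕ} {K : Type u} [Field K] [Algebra k K] (e : BrSev.Splitting f K n)
    (M : X.Modules) (hM : PicF.IsInvertible M) (hMe : BrSev.IsTwPow e 1 1 M) :
    ∃ r : X ⟶ CohB1.ProjSpace n k, IsIso r ∧ r ≫ CohB1.ProjSpace.toSpec n k = f ∧
      Nonempty ((Scheme.Modules.pullback r).obj (Twist.twistProjSpace n k 1) ≅ M) := by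
  classical
  letI : X.Over (Spec (CommRingCat.of k)) := ⟨f⟩
  haveI : IsProper (X ↘ Spec (CommRingCat.of k)) := ‹IsProper f›
  haveI : CompactSpace X := QuasiCompact.compactSpace_of_compactSpace f
  haveI : QuasiSeparatedSpace X := quasiSeparatedSpace_of_quasiSeparated f
  letI : (BrSev.bc f K).Over (Spec (CommRingCat.of K)) := ⟨BrSev.bcTo f K⟩
  let Y := BrSev.bc f K
  let g : Y ⟶ X := BrSev.proj f K
  let qY : Y ⟶ Spec (CommRingCat.of K) := BrSev.bcTo f K
  have sq : IsPullback g (Y ↘ Spec (CommRingCat.of K)) (X ↘ Spec (CommRingCat.of k))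
      (Spec.map (CommRingCat.ofHom (algebraMap k K))) :=
    IsPullback.of_hasPullback f (Spec.map (CommRingCat.ofHom (algebraMap k K)))
  haveI : Coh.IsQCoh M := Groth.L21.Extend.isQCoh_of_isInvertible hM
  let gM := (Scheme.Modules.pullback g).obj M
  obtain ⟨a⟩ := hMe
  let u : (Scheme.Modules.pullback e.iso.hom).obj (O1 n K) ≅ gM :=
    (a ≪≫ coproductUniqueIso fun _ : Fin 1 => e.twist 1).symm
  -- the coordinates form a basis of the sections over `K`
  let τe := u
  let t : Fin (n + 1) → Γ(gM, ⊤) := fun j => u.hom.app ⊤ (rT e.iso.hom j)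
  letI : Module K Γ(gM, ⊤) := Module.compHom Γ(gM, ⊤) (ProjUP.toGlobal qY)
  let v : (Scheme.Modules.pullback e.iso.inv).obj gM ≅ O1 n K :=
    (Scheme.Modules.pullback e.iso.inv).mapIso u.symm ≪≫
      (Scheme.Modules.pullbackComp e.iso.inv e.iso.hom).app _ ≪≫
      (Scheme.Modules.pullbackCongr e.iso.inv_hom_id).app _ ≪≫ (Scheme.Modules.pullbackId _).app _
  have hsmul : ∀ (c : K) (x : Γ(gM, ⊤)), c • x = ProjUP.toGlobal qY c • x := fun _ _ => rfl
  have hbij : Function.Bijective fun s : Γ(O1 n K, ⊤) => u.hom.app ⊤ (ProjUP.pullSec e.iso.hom (O1 n K) s) := by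
    refine (ConcreteCategory.bijective_of_isIso (u.hom.app ⊤)).comp ?_
    exact bijective_pullSec_of_isIso e.iso.hom (O1 n K)
  have hcomb : ∀ c : Fin (n + 1) → K,
      u.hom.app ⊤ (ProjUP.pullSec e.iso.hom (O1 n K) (comb (pr n K) c T)) = ∑ j, c j • t j := fun c => by
    rw [pullSec_comb, app_comb]
    have hq : e.iso.hom ≫ pr n K = qY := e.comm
    rw [hq]
    rfl
  have ht_li : LinearIndependent K t := Fintype.linearIndependent_iff.2 fun c hc j => by
    have h := hbij.1 (a₁ := comb (pr n K) c T) (a₂ := 0) ((hcomb c).trans (hc.trans (Eq.symm ?_)))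
    · exact congrFun (comb_T_injective h) j
    · show u.hom.app ⊤ (ProjUP.pullSec e.iso.hom (O1 n K) 0) = 0
      exact (congrArg _ (map_zero (((Scheme.Modules.pullbackPushforwardAdjunction e.iso.hom).unit.app _).app ⊤).hom)).trans (map_zero _)
  have ht_span : Submodule.span K (Set.range t) = ⊤ := eq_top_iff.2 fun x _ => by
    obtain ⟨s, rfl⟩ := hbij.2 x
    obtain ⟨c, rfl⟩ := exists_comb_T s
    show u.hom.app ⊤ (ProjUP.pullSec e.iso.hom (O1 n K) (comb (pr n K) c T)) ∈ _
    rw [hcomb]
    exact Submodule.sum_mem _ fun j _ => Submodule.smul_mem _ _ (Submodule.subset_span ⟨j, rfl⟩)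
  let bt : Module.Basis (Fin (n + 1)) K Γ(gM, ⊤) := Module.Basis.mk ht_li ht_span.ge
  -- a basis of pulled back sections
  have hpull : Submodule.span K (Set.range fun s : Γ(M, ⊤) => ProjUP.pullSec g M s) = ⊤ := eq_top_iff.2 fun x _ => by
    obtain ⟨m, S, c, hx⟩ := Groth.L21.PicExt.exists_sum_pullSec g sq x
    rw [hx]
    exact Submodule.sum_mem _ fun j _ => Submodule.smul_mem _ (c j) (Submodule.subset_span ⟨S j, rfl⟩)
  obtain ⟨B, hBsub, hBspan, hBli⟩ := exists_linearIndependent K (Set.range fun s : Γ(M, ⊤) => ProjUP.pullSec g M s)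
  rw [hpull] at hBspan
  let bB : Module.Basis B K Γ(gM, ⊤) := Module.Basis.mk hBli (by rw [Subtype.range_coe]; exact hBspan.ge)
  let bS := bB.reindex (bB.indexEquiv bt)
  have hS : ∀ i, ∃ s : Γ(M, ⊤), ProjUP.pullSec g M s = bS i := fun i => by
    rw [Module.Basis.reindex_apply, Module.Basis.mk_apply]
    exact hBsub ((bB.indexEquiv bt).symm i).2
  choose S hS using hS
  let C : Fin (n + 1) → Fin (n + 1) → K := fun i j => bt.repr (bS i) j
  let D : Fin (n + 1) → Fin (n + 1) → K := fun i j => bS.repr (bt i) j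
  have hbS : ∀ i, (bS i : Γ(gM, ⊤)) = comb qY (C i) t := fun i => by
    conv_lhs => rw [← bt.sum_repr (bS i)]
    refine Finset.sum_congr rfl fun j _ => ?_
    rw [show (bt j : Γ(gM, ⊤)) = t j from Module.Basis.mk_apply _ _ j]
    rfl
  have hbt : ∀ i, (t i : Γ(gM, ⊤)) = comb qY (D i) fun j => bS j := fun i => by
    conv_lhs => rw [← show (bt i : Γ(gM, ⊤)) = t i from Module.Basis.mk_apply _ _ i, ← bS.sum_repr (bt i)]
    rfl
  have hkey : ∀ (c : Fin (n + 1) → K) (M' : Fin (n + 1) → Fin (n + 1) → K),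
      u.hom.app ⊤ (ProjUP.pullSec e.iso.hom (O1 n K) (comb (pr n K) c fun i => comb (pr n K) (M' i) T)) =
        comb qY c fun i => comb qY (M' i) t := fun c M' => by
    rw [pullSec_comb, app_comb]
    have hq : e.iso.hom ≫ pr n K = qY := e.comm
    rw [hq]
    refine congrArg (comb qY c) (funext fun i => ?_)
    exact hcomb (M' i)
  have hgenP : ProjUP.GeneratedBy (O1 n K) (T (n := n) (R := K)) :=
    Groth.L18.SpecLine.generatedBy_of_frames (ι := Fin (n + 1)) T fun x => by
      obtain ⟨i, hi⟩ := Opens.mem_iSup.mp ((Groth.L18.PS.iSup_chart (n := n) (R := K)).ge (trivial : x ∈ ⊤))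
      exact ⟨_, i, hi, Groth.L18.PUP.T_frame i⟩
  obtain ⟨h, hh, σ, hiso, hσ⟩ := exists_linear C D
    (fun j => hbij.1 (by
      show u.hom.app ⊤ (ProjUP.pullSec e.iso.hom (O1 n K) (T j)) = _
      refine Eq.trans ?_ (hkey (C j) D).symm
      show t j = comb qY (C j) fun i => comb qY (D i) t
      rw [comb_comb]
      have hone : ∀ l, ∑ i, C j i * D i l = if j = l then 1 else 0 := fun l => by
        have h := congrArg (fun N : Matrix (Fin (n + 1)) (Fin (n + 1)) K => N l j)
          (bS.toMatrix_mul_toMatrix_flip bt)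
        simp only [Matrix.mul_apply, Module.Basis.toMatrix_apply, Matrix.one_apply] at h
        rw [Finset.sum_congr rfl fun i _ => mul_comm (C j i) (D i l)]
        refine h.trans ?_
        by_cases hjl : j = l <;> simp [hjl, eq_comm]
      simp only [hone, comb]
      rw [Finset.sum_eq_single j]
      · simp
      · intro b _ hb; simp [Ne.symm hb]
      · simp))
    (fun j => hbij.1 (by
      show u.hom.app ⊤ (ProjUP.pullSec e.iso.hom (O1 n K) (T j)) = _
      refine Eq.trans ?_ (hkey (D j) C).symm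
      show t j = comb qY (D j) fun i => comb qY (C i) t
      rw [show (fun i => comb qY (C i) t) = fun i => (bS i : Γ(gM, ⊤)) from funext fun i => (hbS i).symm]
      exact hbt j))
  -- the map given by the sections
  have hgenY : ProjUP.GeneratedBy gM fun i => ProjUP.pullSec g M (S i) := by
    refine generatedBy_of_comb qY (s := t) ?_ fun j => ⟨D j, by simp only [hS]; exact hbt j⟩
    exact generatedBy_rT e.iso.hom u
  obtain ⟨r, hr, τ, hτ⟩ := Groth.L18.PUP.exists_hom f M hM S (Groth.L21.RR.generatedBy_of_pullback g sq hM hgenY)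
  obtain ⟨rK, hrK, τK, hτK⟩ := Groth.L18.PUP.exists_hom qY gM (Groth.L18.Ample.isInvertible_pullback g hM) _ hgenY
  have hcmp : rK ≫ h = e.iso.hom := comp_eq qY D (fun j => by simp only [hS]; exact hbt j) rK hrK τK hτK
    e.iso.hom e.comm u (fun _ => rfl) h hh σ hσ
  haveI : IsIso rK := by
    haveI : IsIso (rK ≫ h) := by rw [hcmp]; infer_instance
    exact IsIso.of_isIso_comp_right rK h
  haveI : IsClosedImmersion r := Groth.L21.RR.isClosedImmersion_of_pullback g sq r hr τ hτ rK hrK τK hτK
  -- surjectivity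
  let π := Groth.L16.ProjSpace.map n (algebraMap k K)
  obtain ⟨w, hw⟩ := Groth.L02.Quot.Mono.exists_pullback_iso (n := n) (D := 1) (algebraMap k K)
  have hmono : ∀ (R : Type u) [CommRing R] (j : Fin (n + 1)),
      Groth.L02.Quot.Mono.mono R ⟨fun i => if i = j then 1 else 0, by simp [apply_ite]⟩ =
        (T j : Γ(O1 n R, ⊤)) := fun R _ j => by
    refine congrArg (Groth.L16.ProjSpace.polyToSection n R 1) (Subtype.ext ?_)
    show MvPolynomial.monomial (Groth.L02.Quot.Mono.expo _) 1 = MvPolynomial.X j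
    refine congrArg (fun d => MvPolynomial.monomial d (1 : R)) (Finsupp.ext fun i => ?_)
    by_cases h : i = j
    · subst h; simp [Groth.L02.Quot.Mono.expo]
    · simp [Groth.L02.Quot.Mono.expo, h]
  have hwT : ∀ j, w.hom.app ⊤ (ProjUP.pullSec π (O1 n k) (T j)) = (T j : Γ(O1 n K, ⊤)) := fun j => by
    rw [← hmono k j, ← hmono K j]
    exact hw _
  let σr := τK ≪≫ (Scheme.Modules.pullback g).mapIso τ.symm ≪≫
    (Scheme.Modules.pullbackComp g r).app (O1 n k)
  have hσr : ∀ j, σr.hom.app ⊤ (rT rK j) = rT (g ≫ r) j := fun j => by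
    show ((Scheme.Modules.pullbackComp g r).hom.app _).app ⊤ (((Scheme.Modules.pullback g).map τ.inv).app ⊤
      (τK.hom.app ⊤ (rT rK j))) = _
    have hinv : τ.inv.app ⊤ (S j) = rT r j := by
      rw [← hτ j]
      exact congr($(congrArg (fun k => Scheme.Modules.Hom.app k ⊤) τ.hom_inv_id) (rT r j))
    rw [hτK, Groth.L21.RR.pullSec_map, hinv]
    exact Groth.L21.RR.pullSec_comp g r _ _
  have hcomm : rK ≫ π = g ≫ r := by
    refine Groth.L18.PUP.hom_ext _ _ ?_
      (((Scheme.Modules.pullbackComp rK π).app _).symm ≪≫ (Scheme.Modules.pullback rK).mapIso w ≪≫ σr) fun j => ?_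
    · rw [Category.assoc, Category.assoc, Groth.L16.ProjSpace.map_toSpec, reassoc_of% hrK, hr]
      exact sq.w.symm
    · show σr.hom.app ⊤ (((Scheme.Modules.pullback rK).map w.hom).app ⊤
        (((Scheme.Modules.pullbackComp rK π).inv.app (O1 n k)).app ⊤ (rT (rK ≫ π) j))) = _
      have h1 : ((Scheme.Modules.pullbackComp rK π).inv.app (O1 n k)).app ⊤ (rT (rK ≫ π) j) =
          ProjUP.pullSec rK _ (ProjUP.pullSec π (O1 n k) (T j)) := by
        rw [rT, ← Groth.L21.RR.pullSec_comp rK π (O1 n k) (T j)]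
        exact congr($(congrArg (fun k => Scheme.Modules.Hom.app k ⊤)
          ((Scheme.Modules.pullbackComp rK π).hom_inv_id_app (O1 n k))) (ProjUP.pullSec rK _ _))
      rw [h1]
      erw [Groth.L21.RR.pullSec_map, hwT]
      exact hσr j
  haveI : Surjective r := by
    have h1 : Surjective (rK ≫ Groth.L16.ProjSpace.map n (algebraMap k K)) := by
      haveI : Surjective (Groth.L16.ProjSpace.map n (algebraMap k K)) :=
        MorphismProperty.of_isPullback (P := @Surjective) (Groth.L16.ProjSpace.isPullback_map n (algebraMap k K)).flip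
          ⟨fun p => ⟨(IsLocalRing.closedPoint K : PrimeSpectrum K), Subsingleton.elim (α := PrimeSpectrum k) _ _⟩⟩
      infer_instance
    rw [hcomm] at h1
    exact Surjective.of_comp g r
  haveI : IsIntegral (P n k) := Groth.L16.ProjSpace.isIntegral n k
  exact ⟨r, isIso_of_isClosedImmersion_of_surjective r, hr, ⟨τ⟩⟩

end Groth.L24.SB
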