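import Groth.Agent.L24.SB.Cohom
import Groth.Agent.L22.PDual.TwistExt
import Groth.Agent.L20.SeeNormal.OpenAffine
import Groth.Agent.L16.ProjSpace.Basic

/-!
# Lifting sections of twists on projective space
-/

set_option autoImplicit false
set_option linter.style.haveILetI false
set_option backward.isDefEq.respectTransparency false
set_option backward.isDefEq.respectTransparency.types false

universe u

open CategoryTheory CategoryTheory.Limits AlgebraicGeometry
open Groth.L00.Tensor (tensorRightF tensorLeftF tensorIso tensorUnitLeft)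

noncomputable section

namespace Groth.L24.SB

open Groth.L22.Reg (O' tw')
open Groth.L16.CohLinear (hmap hmap_comp hmap_id delta exact_hmap_hmap exact_hmap_delta exact_delta_hmap)

variable {K : Type u} [Field K] {d : ℕ}

/-- Every map from `O(-t)` lifts. -/
def Lifts {A B : (CohB1.ProjSpace d K).Modules} (p : A ⟶ B) (t : ℤ) : Prop :=
  ∀ s : O' d K (-t) ⟶ B, ∃ s', s' ≫ p = s

theorem surjective_hmap_tw {A B : (CohB1.ProjSpace d K).Modules} (p : A ⟶ B) {t : ℤ} (h : Lifts p t) :
    Function.Surjective (hmap ((tensorRightF (O' d K t)).map p) 0) := by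
  haveI := Groth.L22.PDual.isEquivalence_tw (n := d) (k := K) t
  obtain ⟨a⟩ := Groth.L22.Reg.nonempty_O_add (n := d) (R := K) (show -t + t = 0 by omega)
  obtain ⟨b⟩ := Groth.L22.Reg.nonempty_O_zero d K
  let T := tensorRightF (O' d K t)
  intro x
  obtain ⟨φ, hφ⟩ := Groth.L21.RR.exists_hom_of_hh0 x
  obtain ⟨s', hs'⟩ := h (T.preimage ((a ≪≫ b).hom ≫ φ))
  let φ' : Coh.structureModule _ ⟶ T.obj A := (a ≪≫ b).inv ≫ T.map s'
  have hlift : φ' ≫ T.map p = φ := by
    simp only [φ', Category.assoc, ← Functor.map_comp, hs', Functor.map_preimage]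
    exact Iso.inv_hom_id_assoc (a ≪≫ b) φ
  refine ⟨(Groth.L21.RR.e0 _).symm (φ'.app ⊤ (Groth.L21.RR.oneSec _)), (Groth.L21.RR.e0 _).injective ?_⟩
  rw [Groth.L21.RR.e0_hmap, AddEquiv.apply_symm_apply, ← hφ, ← hlift]
  rfl

theorem lifts_of_surjective {A B : (CohB1.ProjSpace d K).Modules} (p : A ⟶ B) {t : ℤ}
    (h : Function.Surjective (hmap ((tensorRightF (O' d K t)).map p) 0)) : Lifts p t := by
  haveI := Groth.L22.PDual.isEquivalence_tw (n := d) (k := K) t
  obtain ⟨a⟩ := Groth.L22.Reg.nonempty_O_add (n := d) (R := K) (show -t + t = 0 by omega)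
  obtain ⟨b⟩ := Groth.L22.Reg.nonempty_O_zero d K
  let T := tensorRightF (O' d K t)
  intro s
  obtain ⟨φ', hφ'⟩ := Groth.L22.PDual.exists_lift_section (T.map p) h ((a ≪≫ b).inv ≫ T.map s)
  refine ⟨T.preimage ((a ≪≫ b).hom ≫ φ'), T.map_injective ?_⟩
  rw [Functor.map_comp, Functor.map_preimage, Category.assoc, hφ']
  exact Iso.hom_inv_id_assoc (a ≪≫ b) _

/-- Lifting in a degree where the target is globally generated gives an epimorphism. -/
theorem epi_of_lifts {A B : (CohB1.ProjSpace d K).Modules} (p : A ⟶ B) {t : ℤ}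
    (hgg : Curv2.IsGloballyGenerated (tw' B t)) (h : Lifts p t) : Epi p := by
  haveI := Groth.L22.PDual.isEquivalence_tw (n := d) (k := K) t
  obtain ⟨a⟩ := Groth.L22.Reg.nonempty_O_add (n := d) (R := K) (show -t + t = 0 by omega)
  obtain ⟨b⟩ := Groth.L22.Reg.nonempty_O_zero d K
  let T := tensorRightF (O' d K t)
  refine Preadditive.epi_of_cancel_zero p fun {Z} q hq => ?_
  by_contra hne
  obtain ⟨σ, hσ⟩ := Groth.L22.PDual.exists_section_comp_ne_zero hgg
    (φ := T.map q) fun h0 => hne (T.map_injective (by rw [Functor.map_zero]; exact h0))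
  obtain ⟨s', hs'⟩ := h (T.preimage ((a ≪≫ b).hom ≫ σ))
  refine hσ ((cancel_epi (a ≪≫ b).hom).1 ?_)
  rw [← Category.assoc, ← T.map_preimage ((a ≪≫ b).hom ≫ σ), ← hs', ← Functor.map_comp, Category.assoc, hq]
  simp

/-- No sections in negative twists. -/
def Good (F : (CohB1.ProjSpace d K).Modules) : Prop :=
  ∀ t : ℤ, t < 0 → Subsingleton (Coh.HH (CohB1.ProjSpace d K) (tw' F t) 0)

/-- No intermediate cohomology up to a defect. -/
def Mid (s : ℕ) (F : (CohB1.ProjSpace d K).Modules) : Prop :=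
  ∀ (t : ℤ) (q : ℕ), 0 < q → q + s < d → Subsingleton (Coh.HH (CohB1.ProjSpace d K) (tw' F t) q)

theorem good_sigma (hd : 1 ≤ d) {r : ℕ} (a : Fin r → ℤ) (ha : ∀ i, a i ≤ 0)
    {F : (CohB1.ProjSpace d K).Modules} (e : F ≅ ∐ fun j => O' d K (a j)) : Good F := fun t ht =>
  Groth.L22.PDual.subsingleton_sigma_mid a e t fun j => ⟨fun h => by have := ha j; omega, fun h => by omega⟩

theorem lifts_of_good {A B : (CohB1.ProjSpace d K).Modules} (p : A ⟶ B) (hB : Good B) {t : ℤ} (ht : t < 0) :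
    Lifts p t :=
  lifts_of_surjective p fun x => ⟨0, @Subsingleton.elim _ (hB t ht) _ _⟩

theorem good_of_mono {A B : (CohB1.ProjSpace d K).Modules} (i : A ⟶ B) [Mono i] (hB : Good B) : Good A :=
  fun t ht => by
    haveI := Groth.L22.PDual.isEquivalence_tw (n := d) (k := K) t
    haveI : Mono ((tensorRightF (O' d K t)).map i) := inferInstance
    haveI : Subsingleton (Coh.HH _ ((tensorRightF (O' d K t)).obj B) 0) := hB t ht
    exact (Groth.L21.RR.injective_hmap_zero ((tensorRightF (O' d K t)).map i)).subsingleton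

/-- The syzygy of a lifting cover has less intermediate cohomology. -/
theorem mid_syzygy {S : ShortComplex (CohB1.ProjSpace d K).Modules} (hS : S.ShortExact) (s : ℕ)
    (h3 : Mid (s + 1) S.X₃) (hlift : ∀ t : ℤ, Lifts S.g t) (h2 : Mid 0 S.X₂) : Mid s S.X₁ := by
  intro t q hq hqd
  haveI := Groth.L22.PDual.isEquivalence_tw (n := d) (k := K) t
  haveI : (tensorRightF (O' d K t)).Additive := Functor.additive_of_preserves_binary_products _
  have hT := hS.map_of_exact (tensorRightF (O' d K t))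
  haveI := h2 t q hq (by omega)
  obtain ⟨q', rfl⟩ : ∃ q', q = q' + 1 := ⟨q - 1, by omega⟩
  refine subsingleton_of_forall_eq 0 fun x => ?_
  obtain ⟨y, rfl⟩ := ((exact_delta_hmap hT q') x).1 (@Subsingleton.elim _ (h2 t (q' + 1) hq (by omega)) _ _)
  rcases Nat.eq_zero_or_pos q' with rfl | hq'
  · obtain ⟨z, rfl⟩ := surjective_hmap_tw S.g (hlift t) y
    exact (exact_hmap_delta hT 0).apply_apply_eq_zero z
  · obtain rfl : y = 0 := @Subsingleton.elim _ (h3 t q' hq' (by omega)) _ _
    exact map_zero _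

/-- On a point every twist is trivial. -/
theorem nonempty_twist_point (a b : ℤ) : Nonempty (O' 0 K a ≅ O' 0 K b) := by
  haveI := Groth.L16.ProjSpace.isIso_toSpec_zero (R := K)
  obtain ⟨x⟩ := Groth.L20.SeeNormal.nonempty_iso_structureModule_of_openImmersion (CohB1.ProjSpace.toSpec 0 K)
    (O' 0 K a) (Groth.L16.ProjTwist.isInvertible_twistProjSpace 0 K a)
  obtain ⟨y⟩ := Groth.L20.SeeNormal.nonempty_iso_structureModule_of_openImmersion (CohB1.ProjSpace.toSpec 0 K)
    (O' 0 K b) (Groth.L16.ProjTwist.isInvertible_twistProjSpace 0 K b)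
  exact ⟨x ≪≫ y.symm⟩

/-- A sum of copies of a positive twist is not good. -/
theorem le_zero_of_good {r : ℕ} (hr : 0 < r) {j : ℤ} {F : (CohB1.ProjSpace d K).Modules}
    (e : F ≅ ∐ fun _ : Fin r => O' d K j) (h : Good F) : j ≤ 0 := by
  by_contra hj
  obtain ⟨a⟩ := Groth.L22.Reg.nonempty_O_add (n := d) (R := K) (show j + -j = 0 by omega)
  obtain ⟨b⟩ := Groth.L22.Reg.nonempty_O_zero d K
  haveI : PreservesColimitsOfSize.{0, 0} (tensorRightF (O' d K (-j))) :=
    preservesColimitsOfSize_shrink.{0, u, 0, u} _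
  have h1 : Subsingleton (Coh.HH (CohB1.ProjSpace d K) (∐ fun _ : Fin r => Coh.structureModule _) 0) :=
    Groth.Agent.Pic0.subsingleton_HH_congr (tensorIso e (Iso.refl _) ≪≫
      PreservesCoproduct.iso (tensorRightF (O' d K (-j))) (fun _ : Fin r => O' d K j) ≪≫
      Sigma.mapIso fun _ => a ≪≫ b) 0 (h (-j) (by omega))
  haveI h2 := (subsingleton_HH_const_iff (Coh.structureModule (CohB1.ProjSpace d K)) hr 0).1 h1
  haveI : Subsingleton Γ(CohB1.ProjSpace d K, ⊤) :=
    (Groth.L21.RR.e0 (Coh.structureModule (CohB1.ProjSpace d K))).symm.toEquiv.subsingleton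
  haveI : Nonempty (⊤ : (CohB1.ProjSpace d K).Opens) := ⟨⟨genericPoint _, trivial⟩⟩
  haveI : Nontrivial Γ(CohB1.ProjSpace d K, ⊤) := Scheme.component_nontrivial (CohB1.ProjSpace d K) ⊤
  exact not_subsingleton Γ(CohB1.ProjSpace d K, ⊤) inferInstance

end Groth.L24.SB
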