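import Groth.Agent.L24.GalPush.Existence
import Groth.Agent.L11.SBAut.Proj
import Groth.Agent.L18.KRRAmple
import Groth.Agent.L21.Bundle.Lines
import Groth.Prelude.Def_BrSev2
import Groth.Prelude.Def_GSzCSA

/-!
# Changing the splitting field
-/

set_option autoImplicit false
set_option linter.style.haveILetI false
set_option backward.isDefEq.respectTransparency false
set_option backward.isDefEq.respectTransparency.types false

universe u

open CategoryTheory CategoryTheory.Limits AlgebraicGeometry
open scoped TensorProduct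

noncomputable section

namespace Groth.L24.SB

variable {k : Type u} [Field k] {X : Scheme.{u}} (f : X ⟶ Spec (CommRingCat.of k))

/-- A splitting field of the algebra splits the variety. -/
theorem exists_splitting_of_splits {A : Type u} [Ring A] [Algebra k A] {n : ℕ} (hn : 0 < n)
    (hA : Module.finrank k A = n * n) (hX : BrSev.IsSBOf k A (n * n - n) f)
    (L : Type u) [Field L] [Algebra k L] (h : Curves.Splits k A L) : Nonempty (BrSev.Splitting f L (n - 1)) := by
  obtain ⟨d, rfl⟩ := Nat.exists_eq_succ_of_ne_zero hn.ne'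
  obtain ⟨S⟩ := hX
  obtain ⟨m, hm, ⟨e⟩⟩ := h
  obtain rfl : m = d + 1 := by
    have h1 := e.toLinearEquiv.finrank_eq
    rw [Module.finrank_baseChange, hA, Module.finrank_matrix, Fintype.card_fin, Module.finrank_self, mul_one] at h1
    exact (Nat.mul_self_inj.1 h1).symm
  exact Groth.L11.SBAut.exists_splitting S e

/-- The comparison map between base changes. -/
theorem exists_tower {L K : Type u} [Field L] [Field K] [Algebra k L] [Algebra k K] (σ : L →ₐ[k] K) :
    ∃ t : BrSev.bc f K ⟶ BrSev.bc f L, t ≫ BrSev.proj f L = BrSev.proj f K ∧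
      IsPullback t (BrSev.bcTo f K) (BrSev.bcTo f L) (Spec.map (CommRingCat.ofHom σ.toRingHom)) := by
  have hspec : Spec.map (CommRingCat.ofHom σ.toRingHom) ≫ Spec.map (CommRingCat.ofHom (algebraMap k L)) =
      Spec.map (CommRingCat.ofHom (algebraMap k K)) := by
    rw [← Spec.map_comp, ← CommRingCat.ofHom_comp]
    congr 2
    exact σ.comp_algebraMap
  let t : BrSev.bc f K ⟶ BrSev.bc f L := pullback.lift (BrSev.proj f K)
    (BrSev.bcTo f K ≫ Spec.map (CommRingCat.ofHom σ.toRingHom))
    (by rw [Category.assoc, hspec]; exact pullback.condition)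
  refine ⟨t, pullback.lift_fst _ _ _, IsPullback.of_right ?_ (pullback.lift_snd _ _ _)
    (IsPullback.of_hasPullback f (Spec.map (CommRingCat.ofHom (algebraMap k L))))⟩
  rw [hspec, show t ≫ pullback.fst _ _ = BrSev.proj f K from pullback.lift_fst _ _ _]
  exact IsPullback.of_hasPullback f (Spec.map (CommRingCat.ofHom (algebraMap k K)))

/-- Types do not depend on the splitting field. -/
theorem isTwPow_bc {n : ℕ} {L K : Type u} [Field L] [Field K] [Algebra k L] [Algebra k K] (σ : L →ₐ[k] K)
    (eL : BrSev.Splitting f L n) (e : BrSev.Splitting f K n) {j : ℤ} {r : ℕ} {M : X.Modules}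
    (h : BrSev.IsTwPow eL j r M) : BrSev.IsTwPow e j r M := by
  obtain ⟨a⟩ := h
  obtain ⟨t, ht, sqt⟩ := exists_tower f σ
  obtain ⟨b⟩ := Groth.L24.GalPush.nonempty_twist_iso f eL e σ t sqt j
  haveI := (Scheme.Modules.pullbackPushforwardAdjunction t).leftAdjoint_preservesColimits
  haveI : PreservesColimitsOfSize.{0, 0} (Scheme.Modules.pullback t) :=
    preservesColimitsOfSize_shrink.{0, u, 0, u} _
  exact ⟨(Scheme.Modules.pullbackCongr ht.symm).app M ≪≫
    ((Scheme.Modules.pullbackComp t (BrSev.proj f L)).app M).symm ≪≫ (Scheme.Modules.pullback t).mapIso a ≪≫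
    PreservesCoproduct.iso (Scheme.Modules.pullback t) (fun _ : Fin r => eL.twist j) ≪≫
    Sigma.mapIso fun _ => b⟩

/-- A splitting over `K` gives one of the base change to an intermediate field, with the same types. -/
theorem exists_splitting_tower {n : ℕ} {L K : Type u} [Field L] [Field K] [Algebra k L] [Algebra k K] [Algebra L K]
    [IsScalarTower k L K] (e : BrSev.Splitting f K n) :
    ∃ e' : BrSev.Splitting (BrSev.bcTo f L) K n, ∀ (j : ℤ) (r : ℕ) (N : (BrSev.bc f L).Modules),
      (∀ (t : BrSev.bc f K ⟶ BrSev.bc f L)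
        (_ : IsPullback t (BrSev.bcTo f K) (BrSev.bcTo f L) (Spec.map (CommRingCat.ofHom (algebraMap L K))))
        (_ : t ≫ BrSev.proj f L = BrSev.proj f K),
        Nonempty ((Scheme.Modules.pullback t).obj N ≅ BrSev.pow (e.twist j) r)) →
      BrSev.IsTwPow e' j r N := by
  obtain ⟨t, ht, sqt⟩ := exists_tower f (IsScalarTower.toAlgHom k L K)
  let I : BrSev.bc (BrSev.bcTo f L) K ≅ BrSev.bc f K := sqt.isoPullback.symm
  have hI1 : I.hom ≫ t = BrSev.proj (BrSev.bcTo f L) K := IsPullback.isoPullback_inv_fst sqt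
  have hI2 : I.hom ≫ BrSev.bcTo f K = BrSev.bcTo (BrSev.bcTo f L) K := IsPullback.isoPullback_inv_snd sqt
  refine ⟨⟨I ≪≫ e.iso, by rw [Iso.trans_hom, Category.assoc, e.comm, hI2]⟩, fun j r N h => ?_⟩
  obtain ⟨a⟩ := h t sqt ht
  haveI := (Scheme.Modules.pullbackPushforwardAdjunction I.hom).leftAdjoint_preservesColimits
  haveI : PreservesColimitsOfSize.{0, 0} (Scheme.Modules.pullback I.hom) :=
    preservesColimitsOfSize_shrink.{0, u, 0, u} _
  exact ⟨(Scheme.Modules.pullbackCongr hI1.symm).app N ≪≫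
    ((Scheme.Modules.pullbackComp I.hom t).app N).symm ≪≫ (Scheme.Modules.pullback I.hom).mapIso a ≪≫
    PreservesCoproduct.iso (Scheme.Modules.pullback I.hom) (fun _ : Fin r => e.twist j) ≪≫
    Sigma.mapIso fun _ => (Scheme.Modules.pullbackComp I.hom e.iso.hom).app _⟩

/-- A splitting field of the variety has a rational point. -/
theorem nonempty_pts {L : Type u} [Field L] [Algebra k L] (s : Spec (CommRingCat.of L) ⟶ BrSev.bc f L)
    (hs : s ≫ BrSev.bcTo f L = 𝟙 _) : Nonempty (BrSev.Pts f L) :=
  ⟨⟨s ≫ BrSev.proj f L, by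
    rw [Category.assoc, show BrSev.proj f L ≫ f = BrSev.bcTo f L ≫ _ from pullback.condition, reassoc_of% hs]⟩⟩

/-- A bundle which becomes invertible after a surjective base change is invertible. -/
theorem isInvertible_of_pullback_invertible {Y : Scheme.{u}} (g : Y ⟶ X) [Surjective g] {M : X.Modules}
    (hM : FlatMod.IsFinLocFree M) (h : PicF.IsInvertible ((Scheme.Modules.pullback g).obj M)) :
    PicF.IsInvertible M := by
  refine Groth.L21.Bundle.isInvertible_of_rank fun x => ?_
  obtain ⟨U, m, hx, ⟨i⟩⟩ := hM x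
  obtain ⟨y, rfl⟩ := g.surjective x
  obtain ⟨j⟩ := Groth.L29.LocFree.restrict_pullback g i
  obtain ⟨V, hy, ⟨l⟩⟩ := Groth.L18.KRRAmple.isRankOne_of_isInvertible h y
  obtain rfl : m = 1 := Groth.L18.KRRAmple.rank_unique (E := (Scheme.Modules.pullback g).obj M)
    (x := y) (U := g ⁻¹ᵁ U) (V := V) hx hy j l
  exact ⟨U, hx, ⟨i⟩⟩

end Groth.L24.SB
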