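import Groth.Agent.L24.SB.HomBase
import Groth.Agent.L24.KrullSchmidt.Division
import Groth.Agent.L11.CSA.Descent
import Groth.Agent.L11.CSA.Index

/-!
# Endomorphism algebras of isotypical bundles are forms of matrix algebras
-/

set_option autoImplicit false
set_option linter.style.haveILetI false
set_option backward.isDefEq.respectTransparency false
set_option backward.isDefEq.respectTransparency.types false

universe u v w

open CategoryTheory CategoryTheory.Limits AlgebraicGeometry
open scoped TensorProduct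

noncomputable section

namespace Groth.L24.SB

section Linear

variable {K : Type u} [Field K] {C : Type v} [Category.{w} C] [Preadditive C] [Linear K C]

/-- Isomorphic objects have isomorphic endomorphism algebras. -/
def endCongr {M N : C} (e : M ≅ N) : End M ≃ₐ[K] End N :=
  AlgEquiv.ofLinearEquiv (Linear.homCongr K e e) (by
    show (e.inv ≫ 𝟙 M) ≫ e.hom = 𝟙 N
    simp) fun a b => by
    show (e.inv ≫ b ≫ a) ≫ e.hom = ((e.inv ≫ b) ≫ e.hom) ≫ (e.inv ≫ a) ≫ e.hom
    simp

/-- The endomorphisms of a power of an object with scalar endomorphisms are matrices. -/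
theorem exists_pow_matrix {L : C} (hL : ∀ f : L ⟶ L, ∃ c : K, f = c • 𝟙 L) (hL0 : 𝟙 L ≠ 0) (r : ℕ)
    [HasCoproduct fun _ : Fin r => L] :
    Nonempty (End (∐ fun _ : Fin r => L) ≃ₐ[K] Matrix (Fin r) (Fin r) K) := by
  classical
  have huniq : ∀ c c' : K, c • 𝟙 L = c' • 𝟙 L → c = c' := fun c c' h => by
    by_contra hne
    refine hL0 ?_
    have h' : (c - c') • 𝟙 L = 0 := by rw [sub_smul, h, sub_self]
    have h'' := congrArg ((c - c')⁻¹ • ·) h'
    rwa [smul_zero, smul_smul, inv_mul_cancel₀ (sub_ne_zero.2 hne), one_smul] at h''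
  choose scal hscal using hL
  let P := ∐ fun _ : Fin r => L
  let ι : Fin r → (L ⟶ P) := fun i => Sigma.ι (fun _ : Fin r => L) i
  let p : Fin r → (P ⟶ L) := fun i => Sigma.desc fun l => if l = i then 𝟙 L else 0
  have hp : ∀ i j, ι j ≫ p i = if j = i then 𝟙 L else 0 := fun i j => Sigma.ι_desc _ _
  have hsum : ∑ i, p i ≫ ι i = 𝟙 P := Sigma.hom_ext _ _ fun l => by
    show ι l ≫ _ = _
    rw [Preadditive.comp_sum, Category.comp_id, Finset.sum_eq_single l]
    · rw [← Category.assoc, hp, if_pos rfl, Category.id_comp]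
    · intro j _ hj
      rw [← Category.assoc, hp, if_neg (Ne.symm hj), zero_comp]
    · exact fun hl => absurd (Finset.mem_univ l) hl
  let Φ : (P ⟶ P) → Matrix (Fin r) (Fin r) K := fun φ i j => scal (ι j ≫ φ ≫ p i)
  have hΦ : ∀ φ i j, ι j ≫ φ ≫ p i = Φ φ i j • 𝟙 L := fun φ i j => hscal _
  let Φl : (P ⟶ P) →ₗ[K] Matrix (Fin r) (Fin r) K :=
    { toFun := Φ
      map_add' := fun a b => Matrix.ext fun i j => huniq _ _ (by
        rw [← hΦ, Matrix.add_apply, add_smul, ← hΦ, ← hΦ]; simp)
      map_smul' := fun c a => Matrix.ext fun i j => huniq _ _ (by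
        rw [← hΦ, Matrix.smul_apply, RingHom.id_apply, smul_eq_mul, mul_smul, ← hΦ]; simp) }
  have hone : Φl (𝟙 P) = 1 := Matrix.ext fun i j => huniq _ _ (by
    show Φ (𝟙 P) i j • _ = _
    rw [← hΦ, Category.id_comp, hp, Matrix.one_apply]
    by_cases h : i = j
    · rw [if_pos h.symm, if_pos h, one_smul]
    · rw [if_neg (Ne.symm h), if_neg h, zero_smul])
  have hmul : ∀ a b : P ⟶ P, Φl (b ≫ a) = Φl a * Φl b := fun a b => Matrix.ext fun i j => huniq _ _ (by
    show Φ (b ≫ a) i j • _ = _
    rw [Matrix.mul_apply, Finset.sum_smul]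
    refine (hΦ (b ≫ a) i j).symm.trans ?_
    calc ι j ≫ (b ≫ a) ≫ p i = ι j ≫ (b ≫ (∑ l, p l ≫ ι l) ≫ a) ≫ p i := by rw [hsum, Category.id_comp]
      _ = ∑ l, (ι j ≫ b ≫ p l) ≫ (ι l ≫ a ≫ p i) := by
        simp only [Preadditive.comp_sum, Preadditive.sum_comp, Category.assoc]
      _ = _ := Finset.sum_congr rfl fun l _ => by
        rw [hΦ b l j, hΦ a i l, Linear.smul_comp, Category.id_comp, smul_smul, mul_comm]
        rfl)
  let Φa : End P →ₐ[K] Matrix (Fin r) (Fin r) K := AlgHom.ofLinearMap Φl hone fun a b => hmul a b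
  refine ⟨AlgEquiv.ofBijective Φa ⟨fun a b h => ?_, fun M => ?_⟩⟩
  · have e : ∀ c : P ⟶ P, c = ∑ i, ∑ j, p j ≫ (Φ c i j • ι i) := fun c => by
      conv_lhs => rw [← Category.id_comp c, ← hsum, ← Category.comp_id c, ← hsum]
      simp only [Preadditive.comp_sum, Preadditive.sum_comp, Category.assoc]
      refine Finset.sum_congr rfl fun i _ => Finset.sum_congr rfl fun j _ => ?_
      rw [← Category.assoc c, ← Category.assoc (ι j), hΦ c i j, Linear.smul_comp, Category.id_comp]
    rw [show a = _ from e a, show b = _ from e b]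
    refine Finset.sum_congr rfl fun i _ => Finset.sum_congr rfl fun j _ => ?_
    rw [show Φ a i j = Φ b i j from congrFun (congrFun h i) j]
  · refine ⟨∑ i, ∑ j, p j ≫ (M i j • ι i), Matrix.ext fun i j => huniq _ _ ?_⟩
    show Φ _ i j • _ = _
    refine (hΦ _ i j).symm.trans ?_
    show ι j ≫ (∑ a, ∑ b, p b ≫ (M a b • ι a) : P ⟶ P) ≫ p i = _
    simp only [Preadditive.comp_sum, Preadditive.sum_comp, Linear.smul_comp, Linear.comp_smul, Category.assoc]
    have e : ∀ a b, ι j ≫ p b ≫ ι a ≫ p i = if j = b ∧ a = i then 𝟙 L else 0 := fun a b => by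
      rw [← Category.assoc, hp, hp]
      by_cases h1 : j = b <;> by_cases h2 : a = i <;> simp [h1, h2]
    simp only [e]
    rw [Finset.sum_eq_single i, Finset.sum_eq_single j]
    · rw [if_pos ⟨rfl, rfl⟩]
    · intro l _ hl; rw [if_neg fun h => hl h.1.symm, smul_zero]
    · exact fun h => absurd (Finset.mem_univ _) h
    · intro l _ hl; exact Finset.sum_eq_zero fun b _ => by rw [if_neg fun h => hl h.2, smul_zero]
    · exact fun h => absurd (Finset.mem_univ _) h

end Linear

variable {k : Type u} [Field k] {X : Scheme.{u}} [X.Over (Spec (CommRingCat.of k))]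
  [IsProper (X ↘ Spec (CommRingCat.of k))]
  {K : Type u} [Field K] [Algebra k K] {Y : Scheme.{u}} [Y.Over (Spec (CommRingCat.of K))] (g : Y ⟶ X)
  (sq : IsPullback g (Y ↘ Spec (CommRingCat.of K)) (X ↘ Spec (CommRingCat.of k))
    (Spec.map (CommRingCat.ofHom (algebraMap k K))))

include sq in
/-- The endomorphism algebra of a coherent module after a field extension. -/
theorem exists_endBC {E : X.Modules} (hE : Coh.IsCoh E) {r : ℕ}
    (ψ : End ((Scheme.Modules.pullback g).obj E) ≃ₐ[K] Matrix (Fin r) (Fin r) K) :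
    Nonempty (K ⊗[k] End E ≃ₐ[K] Matrix (Fin r) (Fin r) K) := by
  let G := Scheme.Modules.pullback g
  let Gm : End E → End (G.obj E) := fun α => G.map (show E ⟶ E from α)
  let ρ : End E →ₐ[k] Matrix (Fin r) (Fin r) K :=
    { toFun := fun α => ψ (Gm α)
      map_one' := by rw [show Gm 1 = 1 from G.map_id E, map_one]
      map_mul' := fun α β => by
        rw [show Gm (α * β) = Gm α * Gm β from G.map_comp (show E ⟶ E from β) (show E ⟶ E from α), map_mul]
      map_zero' := by rw [show Gm 0 = 0 from G.map_zero E E, map_zero]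
      map_add' := fun α β => by rw [show Gm (α + β) = Gm α + Gm β from G.map_add, map_add]
      commutes' := fun c => by
        have h : Gm (algebraMap k (End E) c) = algebraMap k K c • (1 : End (G.obj E)) := by
          rw [Algebra.algebraMap_eq_smul_one]
          show G.map (c • 𝟙 E) = algebraMap k K c • 𝟙 (G.obj E)
          rw [pullback_map_smul g sq c (𝟙 E), G.map_id E]
        rw [h, map_smul, map_one, ← Algebra.algebraMap_eq_smul_one, ← IsScalarTower.algebraMap_apply] }
  let Φ : K ⊗[k] End E →ₐ[K] Matrix (Fin r) (Fin r) K :=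
    Algebra.TensorProduct.lift (Algebra.ofId K _) ρ fun c _ => Algebra.commutes c _
  have key : ∀ z : K ⊗[k] End E, Φ z = ψ (homBC (k := k) (K := K) g E E z) := fun z => by
    induction z using TensorProduct.induction_on with
    | zero => rw [map_zero, show homBC (k := k) (K := K) g E E 0 = (0 : End (G.obj E)) from map_zero _, map_zero]
    | tmul c α =>
      rw [Algebra.TensorProduct.lift_tmul, homBC_tmul g sq c (show E ⟶ E from α)]
      exact (Algebra.smul_def c _).symm.trans (map_smul ψ c (G.map (show E ⟶ E from α) : End (G.obj E))).symm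
    | add a b ha hb =>
      rw [map_add, ha, hb, show homBC (k := k) (K := K) g E E (a + b) =
        ((homBC (k := k) (K := K) g E E a : End (G.obj E)) + (homBC (k := k) (K := K) g E E b : End (G.obj E))) from
          map_add _ a b, map_add]
  refine ⟨AlgEquiv.ofBijective Φ ?_⟩
  rw [show (Φ : K ⊗[k] End E → Matrix (Fin r) (Fin r) K) = ψ ∘ homBC (k := k) (K := K) g E E from funext key]
  exact ψ.bijective.comp (bijective_homBC g sq hE hE)

include sq in
/-- The endomorphism algebra of an isotypical bundle is a form of a matrix algebra. -/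
theorem exists_endAlg (hk : Function.Bijective (Coh.toGlobal (Y ↘ Spec (CommRingCat.of K))))
    {L L' : Y.Modules} (t : CohB1.tensorMod L L' ≅ Coh.structureModule Y)
    {E : X.Modules} (hE : FlatMod.IsFinLocFree E) {r : ℕ}
    (a : (Scheme.Modules.pullback g).obj E ≅ ∐ fun _ : Fin r => L) :
    Nonempty (K ⊗[k] End E ≃ₐ[K] Matrix (Fin r) (Fin r) K) := by
  haveI : IsLocallyNoetherian X := LocallyOfFiniteType.isLocallyNoetherian (X ↘ Spec (CommRingCat.of k))
  obtain ⟨ψ⟩ := exists_pow_matrix (K := K) (fun f => Groth.L03.VBPn.exists_eq_smul_id hk t f)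
    (fun h => (Groth.L24.KrullSchmidt.indec_of_invertible hk t).1 ((IsZero.iff_id_eq_zero L).2 h)) r
  exact exists_endBC g sq (Groth.L16.NegPow.isCoh_of_isFinLocFree hE) ((endCongr a).trans ψ)

/-- A form of a matrix algebra is central simple. -/
theorem csa_of_equiv {D : Type u} [Ring D] [Algebra k D] {r : ℕ} (hr : 0 < r)
    (e : K ⊗[k] D ≃ₐ[K] Matrix (Fin r) (Fin r) K) :
    Algebra.IsCentral k D ∧ IsSimpleRing D ∧ FiniteDimensional k D ∧ Module.finrank k D = r * r := by
  haveI : NeZero r := ⟨hr.ne'⟩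
  haveI : Algebra.IsCentral K (K ⊗[k] D) := Groth.L11.CSA.isCentral_of_equiv e
  haveI : IsSimpleRing (K ⊗[k] D) := IsSimpleRing.of_ringEquiv e.symm.toRingEquiv inferInstance
  haveI : Module.Finite K (K ⊗[k] D) := Module.Finite.equiv e.symm.toLinearEquiv
  haveI h3 := Groth.L11.CSA.finite_of_baseChange k D K
  refine ⟨Groth.L11.CSA.isCentral_of_baseChange k D K, Groth.L11.CSA.isSimpleRing_of_baseChange k D K, h3, ?_⟩
  rw [← Module.finrank_baseChange (R := K), e.toLinearEquiv.finrank_eq, Module.finrank_matrix]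
  simp

include sq in
/-- The endomorphism algebra of an indecomposable isotypical bundle has index its multiplicity. -/
theorem isIndex_end (hk : Function.Bijective (Coh.toGlobal (Y ↘ Spec (CommRingCat.of K))))
    {L L' : Y.Modules} (t : CohB1.tensorMod L L' ≅ Coh.structureModule Y)
    {E : X.Modules} (hE : FlatMod.IsFinLocFree E) (hEi : Groth.L24.KrullSchmidt.Indec E) {r : ℕ} (hr : 0 < r)
    (a : (Scheme.Modules.pullback g).obj E ≅ ∐ fun _ : Fin r => L) :
    CSAGal.IsIndex k (End E) r := by
  obtain ⟨e⟩ := exists_endAlg g sq hk t hE a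
  obtain ⟨-, -, -, hd⟩ := csa_of_equiv hr e
  haveI : Nontrivial (End E) := ⟨⟨1, 0, fun h => hEi.1 ((IsZero.iff_id_eq_zero E).2 h)⟩⟩
  letI : DivisionRing (End E) := DivisionRing.ofIsUnitOrEqZero fun f => or_iff_not_imp_right.2 fun hf =>
    (isUnit_iff_isIso f).2 (Groth.L24.KrullSchmidt.isIso_endo g sq hk t hE hEi a f hf)
  exact ⟨hr, 1, End E, inferInstance, inferInstance, one_pos, hd.trans (pow_two r).symm,
    ⟨(AlgEquiv.ofLinearEquiv Matrix.uniqueLinearEquiv (by simp) fun M N => by simp [Matrix.mul_apply]).symm⟩⟩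

end Groth.L24.SB
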