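import Groth.Agent.L24.SB.Point
import Groth.Agent.L24.SB.EndAlg
import Groth.Agent.L24.SB.Tower
import Groth.Agent.L11.SBStable.Main
import Mathlib.CategoryTheory.Idempotents.Basic
import Mathlib.FieldTheory.IsAlgClosed.AlgebraicClosure

/-!
# The endomorphism algebra of the bundle of type `O(1)` has the splitting fields of the algebra
-/

set_option autoImplicit false
set_option linter.style.haveILetI false
set_option backward.isDefEq.respectTransparency false
set_option backward.isDefEq.respectTransparency.types false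

universe u

open CategoryTheory CategoryTheory.Limits AlgebraicGeometry
open scoped TensorProduct
open Groth.L21.Weil (IsRetract)

noncomputable section

namespace Groth.L24.SB

/-- A splitting over a field gives one over any bigger field. -/
theorem exists_splitting_ext {k : Type u} [Field k] {X : Scheme.{u}} (f : X ⟶ Spec (CommRingCat.of k)) {n : ℕ}
    {L K : Type u} [Field L] [Field K] [Algebra k L] [Algebra k K] (σ : L →ₐ[k] K) (e : BrSev.Splitting f L n) :
    Nonempty (BrSev.Splitting f K n) := by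
  obtain ⟨t, ht, sqt⟩ := exists_tower f σ
  have sq1 : IsPullback (t ≫ e.iso.hom) (BrSev.bcTo f K) (CohB1.ProjSpace.toSpec n L)
      (Spec.map (CommRingCat.ofHom σ.toRingHom)) :=
    sqt.of_iso (Iso.refl _) e.iso (Iso.refl _) (Iso.refl _) (by simp) (by simp) (by simp [e.comm]) (by simp)
  exact ⟨⟨sq1.isoIsPullback _ _ (Groth.L16.ProjSpace.isPullback_map n σ.toRingHom),
    IsPullback.isoIsPullback_hom_snd _ _ _ _⟩⟩

section HomBC

variable {k : Type u} [Field k] {X : Scheme.{u}} [X.Over (Spec (CommRingCat.of k))]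
  {K : Type u} [Field K] [Algebra k K] {Y : Scheme.{u}} [Y.Over (Spec (CommRingCat.of K))] (g : Y ⟶ X)
  (sq : IsPullback g (Y ↘ Spec (CommRingCat.of K)) (X ↘ Spec (CommRingCat.of k))
    (Spec.map (CommRingCat.ofHom (algebraMap k K))))

include sq in
/-- The base change map reverses products. -/
theorem homBC_mul {E : X.Modules} (a b : K ⊗[k] End E) :
    homBC (k := k) (K := K) g E E (a * b) =
      homBC (k := k) (K := K) g E E b ≫ homBC (k := k) (K := K) g E E a := by
  induction a using TensorProduct.induction_on with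
  | zero => rw [zero_mul, map_zero]; exact Limits.comp_zero.symm
  | add a a' ha ha' => rw [add_mul, map_add, map_add, ha, ha', Preadditive.comp_add]
  | tmul c α =>
    induction b using TensorProduct.induction_on with
    | zero => rw [mul_zero, map_zero]; exact Limits.zero_comp.symm
    | add b b' hb hb' => rw [mul_add, map_add, map_add, hb, hb', Preadditive.add_comp]
    | tmul d β =>
      rw [Algebra.TensorProduct.tmul_mul_tmul, homBC_tmul g sq, homBC_tmul g sq, homBC_tmul g sq,
        Linear.smul_comp, Linear.comp_smul, smul_smul, mul_comm c d, ← Functor.map_comp]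
      rfl

include sq in
/-- A split algebra of endomorphisms gives an idempotent endomorphism with scalar corner. -/
theorem exists_idem [IsProper (X ↘ Spec (CommRingCat.of k))] {E : X.Modules} (hE : Coh.IsCoh E) {N : ℕ} (hN : N ≠ 0)
    (e : K ⊗[k] End E ≃ₐ[K] Matrix (Fin N) (Fin N) K) :
    ∃ ε : (Scheme.Modules.pullback g).obj E ⟶ (Scheme.Modules.pullback g).obj E, ε ≠ 0 ∧ ε ≫ ε = ε ∧
      ∀ h : (Scheme.Modules.pullback g).obj E ⟶ (Scheme.Modules.pullback g).obj E, ∃ c : K, ε ≫ h ≫ ε = c • ε := by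
  classical
  let i₀ : Fin N := ⟨0, Nat.pos_of_ne_zero hN⟩
  let P : Matrix (Fin N) (Fin N) K := Matrix.single i₀ i₀ 1
  let z := e.symm P
  have hzz : z * z = z := by rw [← map_mul, Matrix.single_mul_single_same, mul_one]
  let Φ := homBC (k := k) (K := K) g E E
  have hΦ := bijective_homBC (k := k) (K := K) g sq hE hE
  refine ⟨Φ z, fun h => ?_, by rw [← homBC_mul g sq, hzz], fun h => ?_⟩
  · have h1 : z = 0 := hΦ.1 (h.trans (map_zero Φ).symm)
    have h2 : P = 0 := by rw [← e.apply_symm_apply P]; show e z = 0; rw [h1, map_zero]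
    exact one_ne_zero (α := K) (by simpa [P] using congrFun (congrFun h2 i₀) i₀)
  · obtain ⟨y, rfl⟩ := hΦ.2 h
    refine ⟨e y i₀ i₀, ?_⟩
    rw [← homBC_mul g sq, ← homBC_mul g sq, ← map_smul]
    congr 1
    apply e.injective
    rw [map_mul, map_mul, map_smul, e.apply_symm_apply]
    ext a b
    by_cases ha : a = i₀ <;> by_cases hb : b = i₀ <;>
      simp [P, Matrix.mul_apply, Matrix.single_apply, ha, hb, Ne.symm, mul_comm]

end HomBC

variable {k : Type u} [Field k] {A : Type u} [Ring A] [Algebra k A] [Algebra.IsCentral k A] [IsSimpleRing A]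
  {n : ℕ} (hn : 0 < n) (hA : Module.finrank k A = n * n) {X : Scheme.{u}} (f : X ⟶ Spec (CommRingCat.of k))
  [X.Over (Spec (CommRingCat.of k))] (hf : X ↘ Spec (CommRingCat.of k) = f)
  [IsProper f] (hX : BrSev.IsSBOf k A (n * n - n) f)
  {K : Type u} [Field K] [Algebra k K] [IsAlgClosure k K] (e : BrSev.Splitting f K (n - 1))
  {W : X.Modules} (hW : FlatMod.IsFinLocFree W) {r : ℕ} (hr : 0 < r) (hWt : BrSev.IsTwPow e 1 r W)
  (L : Type u) [Field L] [Algebra k L]

include hn hA hf hX e hW hWt in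
/-- A splitting field of the algebra splits the endomorphism algebra. -/
theorem splits_end_of_splits (hr : 0 < r) (hL : Curves.Splits k A L) : Curves.Splits k (End W) L := by
  classical
  haveI : Algebra.IsAlgebraic k K := IsAlgClosure.isAlgebraic
  obtain ⟨eL⟩ := exists_splitting_of_splits f hn hA hX L hL
  let M := AlgebraicClosure L
  let σK : K →ₐ[k] M := IsAlgClosed.lift
  obtain ⟨eM⟩ := exists_splitting_ext f σK e
  obtain ⟨a⟩ := isTwPow_bc f σK e eM hWt
  obtain ⟨e', he'⟩ := exists_splitting_tower f (L := L) eM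
  haveI : IsProper (X ↘ Spec (CommRingCat.of k)) := by rw [hf]; infer_instance
  letI : (BrSev.bc f L).Over (Spec (CommRingCat.of L)) := ⟨BrSev.bcTo f L⟩
  letI : (BrSev.bc (BrSev.bcTo f L) M).Over (Spec (CommRingCat.of M)) := ⟨BrSev.bcTo (BrSev.bcTo f L) M⟩
  haveI : IsProper (BrSev.bc f L ↘ Spec (CommRingCat.of L)) := inferInstanceAs (IsProper (BrSev.bcTo f L))
  have sqL : IsPullback (BrSev.proj f L) (BrSev.bc f L ↘ Spec (CommRingCat.of L))
      (X ↘ Spec (CommRingCat.of k)) (Spec.map (CommRingCat.ofHom (algebraMap k L))) := by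
    rw [hf]; exact IsPullback.of_hasPullback f (Spec.map (CommRingCat.ofHom (algebraMap k L)))
  have sq' : IsPullback (BrSev.proj (BrSev.bcTo f L) M) (BrSev.bc (BrSev.bcTo f L) M ↘ Spec (CommRingCat.of M))
      (BrSev.bc f L ↘ Spec (CommRingCat.of L)) (Spec.map (CommRingCat.ofHom (algebraMap L M))) :=
    IsPullback.of_hasPullback (BrSev.bcTo f L) (Spec.map (CommRingCat.ofHom (algebraMap L M)))
  let WL := (Scheme.Modules.pullback (BrSev.proj f L)).obj W
  obtain ⟨p1⟩ := he' 1 r WL fun t _ ht => ⟨(Scheme.Modules.pullbackComp t (BrSev.proj f L)).app W ≪≫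
    (Scheme.Modules.pullbackCongr ht).app W ≪≫ a⟩
  obtain ⟨p2⟩ := he' 1 r (BrSev.pow (eL.twist 1) r) fun t sqt _ => by
    obtain ⟨b⟩ := Groth.L24.GalPush.nonempty_twist_iso f eL eM (IsScalarTower.toAlgHom k L M) t sqt 1
    haveI := (Scheme.Modules.pullbackPushforwardAdjunction t).leftAdjoint_preservesColimits
    haveI : PreservesColimitsOfSize.{0, 0} (Scheme.Modules.pullback t) :=
      preservesColimitsOfSize_shrink.{0, u, 0, u} _
    exact ⟨PreservesCoproduct.iso (Scheme.Modules.pullback t) (fun _ : Fin r => eL.twist 1) ≪≫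
      Sigma.mapIso fun _ => b⟩
  have hLc := Groth.L16.Existence.isFinLocFree_of_isInvertible (Groth.L24.GalPush.isInvertible_twist f eL 1)
  haveI : IsLocallyNoetherian X := LocallyOfFiniteType.isLocallyNoetherian (X ↘ Spec (CommRingCat.of k))
  haveI : IsLocallyNoetherian (BrSev.bc f L) :=
    LocallyOfFiniteType.isLocallyNoetherian (BrSev.bc f L ↘ Spec (CommRingCat.of L))
  obtain ⟨i⟩ := Groth.L24.KrullSchmidt.nonempty_iso_of_pullback_iso (BrSev.proj (BrSev.bcTo f L) M) sq' _
    (F := WL) (G := BrSev.pow (eL.twist 1) r)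
    (Groth.L16.NegPow.isCoh_of_isFinLocFree (Groth.L29.LocFree.pullback _ hW))
    (Groth.L16.NegPow.isCoh_of_isFinLocFree (Groth.L29.DC.isFinLocFree_coprod_fin _ _ fun _ => hLc)) rfl
    (p1 ≪≫ p2.symm)
  have hk := Groth.L24.GalPush.bijective_toGlobal_bc f eL
  obtain ⟨L', -, ⟨tL⟩⟩ := Groth.L08.Cube.exists_inverse (Groth.L24.GalPush.isInvertible_twist f eL 1)
  obtain ⟨ψ⟩ := exists_pow_matrix (K := L) (fun q => Groth.L03.VBPn.exists_eq_smul_id hk tL q)
    (fun h => (Groth.L24.KrullSchmidt.indec_of_invertible hk tL).1 ((IsZero.iff_id_eq_zero _).2 h)) r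
  exact ⟨r, hr.ne', exists_endBC _ sqL (Groth.L16.NegPow.isCoh_of_isFinLocFree hW) ((endCongr i).trans ψ)⟩

include hn hA hf hX e hW hWt in
/-- A splitting field of the endomorphism algebra splits the algebra. -/
theorem splits_of_splits_end (hL : Curves.Splits k (End W) L) : Curves.Splits k A L := by
  classical
  haveI : Algebra.IsAlgebraic k K := IsAlgClosure.isAlgebraic
  obtain ⟨N, hN, ⟨φ⟩⟩ := hL
  let M := AlgebraicClosure L
  let σK : K →ₐ[k] M := IsAlgClosed.lift
  obtain ⟨eM⟩ := exists_splitting_ext f σK e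
  obtain ⟨a⟩ := isTwPow_bc f σK e eM hWt
  obtain ⟨e', he'⟩ := exists_splitting_tower f (L := L) eM
  haveI : IsProper (X ↘ Spec (CommRingCat.of k)) := by rw [hf]; infer_instance
  letI : (BrSev.bc f L).Over (Spec (CommRingCat.of L)) := ⟨BrSev.bcTo f L⟩
  letI : (BrSev.bc (BrSev.bcTo f L) M).Over (Spec (CommRingCat.of M)) := ⟨BrSev.bcTo (BrSev.bcTo f L) M⟩
  haveI : IsProper (BrSev.bc f L ↘ Spec (CommRingCat.of L)) := inferInstanceAs (IsProper (BrSev.bcTo f L))
  have sqL : IsPullback (BrSev.proj f L) (BrSev.bc f L ↘ Spec (CommRingCat.of L))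
      (X ↘ Spec (CommRingCat.of k)) (Spec.map (CommRingCat.ofHom (algebraMap k L))) := by
    rw [hf]; exact IsPullback.of_hasPullback f (Spec.map (CommRingCat.ofHom (algebraMap k L)))
  haveI : IsLocallyNoetherian X := LocallyOfFiniteType.isLocallyNoetherian (X ↘ Spec (CommRingCat.of k))
  haveI : IsLocallyNoetherian (BrSev.bc f L) :=
    LocallyOfFiniteType.isLocallyNoetherian (BrSev.bc f L ↘ Spec (CommRingCat.of L))
  let WL := (Scheme.Modules.pullback (BrSev.proj f L)).obj W
  obtain ⟨ε, hε0, hεε, hcor⟩ := exists_idem (BrSev.proj f L) sqL (Groth.L16.NegPow.isCoh_of_isFinLocFree hW) hN φ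
  obtain ⟨V, ι, π, hιπ, hπι⟩ := IsIdempotentComplete.idempotents_split WL ε hεε
  have hV : FlatMod.IsFinLocFree V :=
    Groth.L24.KrullSchmidt.isFinLocFree_retract (Groth.L29.LocFree.pullback _ hW) ⟨ι, π, hιπ⟩
  have hV0 : ¬ IsZero V := fun h => hε0 (by rw [← hπι, h.eq_of_tgt π 0, zero_comp])
  have hend : ∀ q : V ⟶ V, ∃ c : L, q = c • 𝟙 V := fun q => by
    obtain ⟨c, hc⟩ := hcor (π ≫ q ≫ ι)
    refine ⟨c, ?_⟩
    have h := congrArg (fun z => ι ≫ z ≫ π) hc
    simp only [← hπι, Category.assoc, Linear.comp_smul, Linear.smul_comp, reassoc_of% hιπ, hιπ,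
      Category.comp_id] at h
    exact h
  obtain ⟨p1⟩ := he' 1 r WL fun t _ ht => ⟨(Scheme.Modules.pullbackComp t (BrSev.proj f L)).app W ≪≫
    (Scheme.Modules.pullbackCongr ht).app W ≪≫ a⟩
  have hLf := Groth.L16.Existence.isFinLocFree_of_isInvertible
    (Groth.L24.GalPush.isInvertible_twist (BrSev.bcTo f L) e' 1)
  haveI : IsProper (BrSev.bc (BrSev.bcTo f L) M ↘ Spec (CommRingCat.of M)) :=
    inferInstanceAs (IsProper (BrSev.bcTo (BrSev.bcTo f L) M))
  haveI : IsLocallyNoetherian (BrSev.bc (BrSev.bcTo f L) M) :=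
    LocallyOfFiniteType.isLocallyNoetherian (BrSev.bc (BrSev.bcTo f L) M ↘ Spec (CommRingCat.of M))
  haveI : Module.Finite M (e'.twist 1 ⟶ e'.twist 1) :=
    Groth.L14.Quot.finite_hom (Groth.L16.NegPow.isCoh_of_isFinLocFree hLf) (Groth.L16.NegPow.isCoh_of_isFinLocFree hLf)
  let P := Scheme.Modules.pullback (BrSev.proj (BrSev.bcTo f L) M)
  have hPV := Groth.L16.NegPow.isCoh_of_isFinLocFree
    (Groth.L29.LocFree.pullback (BrSev.proj (BrSev.bcTo f L) M) hV)
  haveI : Module.Finite M (P.obj V ⟶ P.obj V) := Groth.L14.Quot.finite_hom hPV hPV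
  obtain ⟨m, ⟨b⟩⟩ := Groth.L24.KrullSchmidt.exists_pow_of_retract M
    (Groth.L24.GalPush.indec_twist (BrSev.bcTo f L) e' 1) (A := P.obj V) (r := r)
    (IsRetract.trans ⟨P.map ι, P.map π, by rw [← Functor.map_comp, hιπ, CategoryTheory.Functor.map_id]⟩
      (IsRetract.of_iso p1))
  have sq' : IsPullback (BrSev.proj (BrSev.bcTo f L) M) (BrSev.bc (BrSev.bcTo f L) M ↘ Spec (CommRingCat.of M))
      (BrSev.bc f L ↘ Spec (CommRingCat.of L)) (Spec.map (CommRingCat.ofHom (algebraMap L M))) :=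
    IsPullback.of_hasPullback (BrSev.bcTo f L) (Spec.map (CommRingCat.ofHom (algebraMap L M)))
  have hk := Groth.L24.GalPush.bijective_toGlobal_bc (BrSev.bcTo f L) e'
  obtain ⟨T', -, ⟨tT⟩⟩ := Groth.L08.Cube.exists_inverse (Groth.L24.GalPush.isInvertible_twist (BrSev.bcTo f L) e' 1)
  obtain ⟨φV⟩ := exists_endAlg (BrSev.proj (BrSev.bcTo f L) M) sq' hk tT hV b
  have hdim : Module.finrank L (End V) = 1 := by
    refine finrank_eq_one (1 : End V) (fun h => hV0 ((IsZero.iff_id_eq_zero V).2 h)) fun q => ?_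
    obtain ⟨c, hc⟩ := hend q
    exact ⟨c, hc.symm⟩
  have hm : m = 1 := by
    have h := φV.toLinearEquiv.finrank_eq
    rw [Module.finrank_baseChange, hdim, Module.finrank_matrix, Fintype.card_fin, Module.finrank_self, mul_one] at h
    exact Nat.eq_one_of_mul_eq_one_right h.symm
  subst hm
  haveI : Surjective (BrSev.proj (BrSev.bcTo f L) M) :=
    MorphismProperty.of_isPullback (P := @Surjective) sq'.flip (Groth.L03.ShStab.BC.surjective_specMap M)
  have hVinv : PicF.IsInvertible V := isInvertible_of_pullback_invertible (BrSev.proj (BrSev.bcTo f L) M) hV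
    (Groth.L18.Ample.isInvertible_of_iso (b ≪≫ coproductUniqueIso _).symm
      (Groth.L24.GalPush.isInvertible_twist (BrSev.bcTo f L) e' 1))
  obtain ⟨q, hq, hqc, -⟩ := exists_iso_of_twist_one (BrSev.bcTo f L) e' V hVinv ⟨b⟩
  let pt : Spec (CommRingCat.of L) ⟶ CohB1.ProjSpace (n - 1) L :=
    Groth.L18.PS.tuplePt (B := CommRingCat.of L) (RingHom.id L) (fun _ => 1) 0 isUnit_one
  obtain ⟨x⟩ := nonempty_pts f (pt ≫ inv q) (by
    rw [Category.assoc, ← hqc, IsIso.inv_hom_id_assoc]
    exact (Groth.L18.PS.tuplePt_toSpec (B := CommRingCat.of L) (RingHom.id L) _ 0 isUnit_one).trans (Spec.map_id _))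
  obtain ⟨S⟩ := hX
  exact Groth.L11.SBStable.splits_of_pts f hn hA S L x

end Groth.L24.SB
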