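import Groth.Agent.L24.SB.EndAlg

/-!
# Endomorphisms of powers
-/

set_option autoImplicit false
set_option linter.style.haveILetI false

universe u v w

open CategoryTheory CategoryTheory.Limits

noncomputable section

namespace Groth.L24.SB

variable {k : Type u} [Field k] {C : Type v} [Category.{w} C] [Preadditive C] [Linear k C]

/-- The endomorphisms of a power are matrices of endomorphisms. -/
theorem exists_endPow (W : C) (c : ℕ) [HasCoproduct fun _ : Fin c => W] :
    Nonempty (End (∐ fun _ : Fin c => W) ≃ₐ[k] Matrix (Fin c) (Fin c) (End W)) := by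
  classical
  let P := ∐ fun _ : Fin c => W
  let ι : Fin c → (W ⟶ P) := fun i => Sigma.ι (fun _ : Fin c => W) i
  let p : Fin c → (P ⟶ W) := fun i => Sigma.desc fun l => if l = i then 𝟙 W else 0
  have hp : ∀ i j, ι j ≫ p i = if j = i then 𝟙 W else 0 := fun i j => Sigma.ι_desc _ _
  have hsum : ∑ i, p i ≫ ι i = 𝟙 P := Sigma.hom_ext _ _ fun l => by
    show ι l ≫ _ = _
    rw [Preadditive.comp_sum, Category.comp_id, Finset.sum_eq_single l]
    · rw [← Category.assoc, hp, if_pos rfl, Category.id_comp]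
    · intro j _ hj
      rw [← Category.assoc, hp, if_neg (Ne.symm hj), zero_comp]
    · exact fun hl => absurd (Finset.mem_univ l) hl
  let Φl : (P ⟶ P) →ₗ[k] Matrix (Fin c) (Fin c) (End W) :=
    { toFun := fun φ i j => ι j ≫ φ ≫ p i
      map_add' := fun a b => Matrix.ext fun i j => by
        show ι j ≫ (a + b) ≫ p i = ι j ≫ a ≫ p i + ι j ≫ b ≫ p i
        simp
      map_smul' := fun r a => Matrix.ext fun i j => by
        show ι j ≫ (r • a) ≫ p i = r • (ι j ≫ a ≫ p i)
        simp }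
  have hone : Φl (𝟙 P) = 1 := Matrix.ext fun i j => by
    rw [Matrix.one_apply]
    show ι j ≫ 𝟙 P ≫ p i = _
    rw [Category.id_comp, hp]
    by_cases h : i = j
    · rw [if_pos h.symm, if_pos h]; rfl
    · rw [if_neg (Ne.symm h), if_neg h]
  have hmul : ∀ a b : P ⟶ P, Φl (b ≫ a) = Φl a * Φl b := fun a b => Matrix.ext fun i j => by
    rw [Matrix.mul_apply]
    show ι j ≫ (b ≫ a) ≫ p i = (∑ l, (ι j ≫ b ≫ p l) ≫ (ι l ≫ a ≫ p i) : W ⟶ W)
    calc ι j ≫ (b ≫ a) ≫ p i = ι j ≫ (b ≫ (∑ l, p l ≫ ι l) ≫ a) ≫ p i := by rw [hsum, Category.id_comp]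
      _ = _ := by simp only [Preadditive.comp_sum, Preadditive.sum_comp, Category.assoc]
  let Φa : End P →ₐ[k] Matrix (Fin c) (Fin c) (End W) := AlgHom.ofLinearMap Φl hone fun a b => hmul a b
  refine ⟨AlgEquiv.ofBijective Φa ⟨fun a b h => ?_, fun M => ?_⟩⟩
  · have e : ∀ φ : P ⟶ P, φ = ∑ i, ∑ j, p j ≫ (ι j ≫ φ ≫ p i) ≫ ι i := fun φ => by
      conv_lhs => rw [← Category.id_comp φ, ← hsum, ← Category.comp_id φ, ← hsum]
      simp only [Preadditive.comp_sum, Preadditive.sum_comp, Category.assoc]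
    rw [show a = _ from e a, show b = _ from e b]
    refine Finset.sum_congr rfl fun i _ => Finset.sum_congr rfl fun j _ => ?_
    rw [show ι j ≫ (show P ⟶ P from a) ≫ p i = ι j ≫ (show P ⟶ P from b) ≫ p i from congrFun (congrFun h i) j]
  · refine ⟨∑ i, ∑ j, p j ≫ (show W ⟶ W from M i j) ≫ ι i, Matrix.ext fun i j => ?_⟩
    show ι j ≫ (∑ a, ∑ b, p b ≫ (show W ⟶ W from M a b) ≫ ι a : P ⟶ P) ≫ p i = _
    simp only [Preadditive.comp_sum, Preadditive.sum_comp, Category.assoc]
    rw [Finset.sum_eq_single i, Finset.sum_eq_single j]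
    · rw [← Category.assoc (ι j), hp, hp, if_pos rfl, if_pos rfl, Category.id_comp, Category.comp_id]
    · intro l _ hl
      rw [← Category.assoc (ι j), hp, if_neg (Ne.symm hl), zero_comp]
    · exact fun h => absurd (Finset.mem_univ _) h
    · intro l _ hl
      exact Finset.sum_eq_zero fun b _ => by rw [hp, if_neg hl, comp_zero, comp_zero, comp_zero]
    · exact fun h => absurd (Finset.mem_univ _) h

end Groth.L24.SB
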