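import Groth.Agent.L24.SB.EndAlg
import Groth.Agent.L24.KrullSchmidt.TensorTypes
import Groth.Agent.L03.VBPn.CotEnd
import Groth.Agent.L11.CSA.TPow
import Groth.Agent.L21.Weil.EssFin

/-!
# Endomorphisms of tensor powers
-/

set_option autoImplicit false
set_option linter.style.haveILetI false
set_option backward.isDefEq.respectTransparency false
set_option backward.isDefEq.respectTransparency.types false

universe u

open CategoryTheory CategoryTheory.Limits AlgebraicGeometry
open Groth.L00.Tensor (tensorMap tensorRightF tensorLeftF tensorFlipIso tensorMap_comp tensorMap_id)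
open scoped TensorProduct

noncomputable section

namespace Groth.L24.SB

variable {k : Type u} [Field k] {X : Scheme.{u}} [X.Over (Spec (CommRingCat.of k))]

theorem map_smul_right {M M' : X.Modules} (N : X.Modules) (c : k) (f : M ⟶ M') :
    (tensorRightF N).map (c • f) = c • (tensorRightF N).map f := by
  rw [show c • f = (c • 𝟙 M) ≫ f by rw [Linear.smul_comp, Category.id_comp], Functor.map_comp,
    Groth.L03.VBPn.tensorRightF_map_smul N M c, Linear.smul_comp, Category.id_comp]

theorem map_smul_left (M : X.Modules) {N N' : X.Modules} (c : k) (f : N ⟶ N') :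
    (tensorLeftF M).map (c • f) = c • (tensorLeftF M).map f := by
  have hn : ∀ g : N ⟶ N', (tensorFlipIso M).hom.app N ≫ (tensorLeftF M).map g =
      (tensorRightF M).map g ≫ (tensorFlipIso M).hom.app N' := fun g => ((tensorFlipIso M).hom.naturality g).symm
  rw [← cancel_epi ((tensorFlipIso M).hom.app N), hn, map_smul_right, Linear.smul_comp, Linear.comp_smul, hn]

/-- Endomorphisms of the factors act on a tensor product. -/
theorem exists_tensorHom {A B : Type u} [Ring A] [Algebra k A] [Ring B] [Algebra k B] {M N : X.Modules}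
    (φ : A →ₐ[k] End M) (ψ : B →ₐ[k] End N) : Nonempty (A ⊗[k] B →ₐ[k] End (CohB1.tensorMod M N)) := by
  obtain ⟨haL, -⟩ := Groth.L21.Weil.additive_tensor M
  obtain ⟨-, haR⟩ := Groth.L21.Weil.additive_tensor N
  let R : End M →ₐ[k] End (CohB1.tensorMod M N) :=
    { toFun := fun a => (tensorRightF N).map (show M ⟶ M from a)
      map_one' := (tensorRightF N).map_id M
      map_mul' := fun a b => (tensorRightF N).map_comp (show M ⟶ M from b) (show M ⟶ M from a)
      map_zero' := (tensorRightF N).map_zero M M
      map_add' := fun a b => (tensorRightF N).map_add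
      commutes' := fun c => by
        rw [Algebra.algebraMap_eq_smul_one, Algebra.algebraMap_eq_smul_one]
        show (tensorRightF N).map (c • 𝟙 M) = c • 𝟙 (CohB1.tensorMod M N)
        exact Groth.L03.VBPn.tensorRightF_map_smul N M c }
  let L : End N →ₐ[k] End (CohB1.tensorMod M N) :=
    { toFun := fun a => (tensorLeftF M).map (show N ⟶ N from a)
      map_one' := (tensorLeftF M).map_id N
      map_mul' := fun a b => (tensorLeftF M).map_comp (show N ⟶ N from b) (show N ⟶ N from a)
      map_zero' := (tensorLeftF M).map_zero N N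
      map_add' := fun a b => (tensorLeftF M).map_add
      commutes' := fun c => by
        rw [Algebra.algebraMap_eq_smul_one, Algebra.algebraMap_eq_smul_one]
        show (tensorLeftF M).map (c • 𝟙 N) = c • 𝟙 (CohB1.tensorMod M N)
        rw [map_smul_left, (tensorLeftF M).map_id]
        rfl }
  refine ⟨Algebra.TensorProduct.lift (R.comp φ) (L.comp ψ) fun a b => ?_⟩
  show tensorMap (𝟙 M) (show N ⟶ N from ψ b) ≫ tensorMap (show M ⟶ M from φ a) (𝟙 N) =
    tensorMap (show M ⟶ M from φ a) (𝟙 N) ≫ tensorMap (𝟙 M) (show N ⟶ N from ψ b)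
  rw [← tensorMap_comp, ← tensorMap_comp, Category.id_comp, Category.comp_id, Category.comp_id, Category.id_comp]

/-- The tensor powers of the endomorphisms act on tensor powers. -/
theorem exists_tpowHom (W : X.Modules) (m : ℕ) :
    Nonempty (CSAGal.tpow k (End W) m →ₐ[k] End (CohB1.tensorPow W m)) := by
  induction m with
  | zero => exact ⟨(Algebra.ofId k _).comp (Groth.L11.TPow.zeroEquiv k (End W)).toAlgHom⟩
  | succ m ih =>
    obtain ⟨φ⟩ := ih
    obtain ⟨ψ⟩ := exists_tensorHom φ (AlgHom.id k (End W))
    exact ⟨ψ.comp (Groth.L11.TPow.succEquiv k (End W) m).symm.toAlgHom⟩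

end Groth.L24.SB
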