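import Groth.Agent.S14209
import Groth.Agent.S14202
import Groth.Agent.L24.SB.SplitIff
import Groth.Agent.L24.SB.TensorEnd
import Groth.Agent.L24.SB.PowMatrix
import Groth.Agent.L11.Amitsur.Generic
import Groth.Agent.L11.CSA.Index
import Groth.Agent.L29.DCoh.TensorPerfect
import Groth.Agent.L16.ProjSpace.TwistMul

/-!
# The multiplicity of the bundle of type `O(j)` is the index of the `|j|`-th power
-/

set_option autoImplicit false
set_option linter.style.haveILetI false
set_option backward.isDefEq.respectTransparency false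
set_option backward.isDefEq.respectTransparency.types false

universe u

open CategoryTheory CategoryTheory.Limits AlgebraicGeometry
open scoped TensorProduct
open Groth.L11.Br (BEq)

noncomputable section

namespace Groth.L24.SB

section Algebra

variable {k : Type u} [Field k] {A B : Type u} [Ring A] [Algebra k A] [Algebra.IsCentral k A] [IsSimpleRing A]
  [FiniteDimensional k A] [Ring B] [Algebra k B] [Algebra.IsCentral k B] [IsSimpleRing B] [FiniteDimensional k B]

/-- The index of a power of a power of the class divides. -/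
theorem index_tpow_dvd {i : ℕ} (h : BEq k B (CSAGal.tpow k A i)) (j : ℕ) {a b : ℕ}
    (ha : CSAGal.IsIndex k (CSAGal.tpow k A j) a) (hb : CSAGal.IsIndex k (CSAGal.tpow k B j) b) : b ∣ a := by
  obtain ⟨hA1, hA2, hA3⟩ := Groth.L11.TPow.csa k A j
  obtain ⟨hB1, hB2, hB3⟩ := Groth.L11.TPow.csa k B j
  obtain ⟨F, _, _, hfin, -, hdeg, hF⟩ := Groth.L11.Idx.exists_splitting_field ha
  rw [← hdeg]
  have hji : BEq k (CSAGal.tpow k B j) (CSAGal.tpow k (CSAGal.tpow k A j) i) := by
    have h1 := Groth.L11.Idx.beq_tpow_mul (k := k) (A := A) j i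
    rw [mul_comm] at h1
    exact ((Groth.L11.Idx.beq_tpow h j).trans (Groth.L11.Idx.beq_tpow_mul i j).symm).trans h1
  exact Groth.L11.Idx.dvd_of_splits hb F
    (Groth.L11.Br.splits_of_beq hji F (Groth.L11.Idx.splits_tpow_of_splits F hF i))

/-- Algebras with the same splitting fields generate the same subgroup. -/
theorem exists_beq_tpow {m : ℕ} (hm : 0 < m) (hA : Module.finrank k A = m * m)
    (h : ∀ (L : Type u) [Field L] [Algebra k L], Curves.Splits k A L → Curves.Splits k B L) :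
    ∃ i, BEq k B (CSAGal.tpow k A i) := by
  rcases finite_or_infinite k with hk | hk
  · obtain ⟨r, hr, ⟨e⟩⟩ := Groth.L11.Amitsur.exists_algEquiv_matrix_of_finite (k := k) (A := B)
    exact ⟨0, ((BEq.of_algEquiv e).trans (BEq.matrix_left k hr)).trans
      (BEq.of_algEquiv (Groth.L11.TPow.zeroEquiv k A).symm)⟩
  · obtain ⟨F, _, _, hF, huniv⟩ := Groth.L11.Amitsur.exists_generic_splitting A hm hA
    obtain ⟨i, p, q, hp, hq, he⟩ := huniv B (h F hF)
    exact ⟨i, p, q, hp, hq, he⟩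

end Algebra

section Geometry

variable {k : Type u} [Field k] {X : Scheme.{u}} (f : X ⟶ Spec (CommRingCat.of k)) [IsProper f]
  {d : ℕ} {K : Type u} [Field K] [Algebra k K] (e : BrSev.Splitting f K d)

omit [IsProper f] in
theorem nonempty_twist_add (a b : ℤ) :
    Nonempty (CohB1.tensorMod (e.twist a) (e.twist b) ≅ e.twist (a + b)) := by
  obtain ⟨t⟩ := Groth.L16.ProjTwist.nonempty_tensor_twist_iso_one (CohB1.polyGrading d K)
    (fun x => (Groth.L16.ProjSpace.exists_mem_basicOpen_X d K x).elim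
      fun i hi => ⟨⟨_, Groth.L16.ProjSpace.X_mem d K i⟩, hi⟩) a b
  exact ⟨Groth.L29.DC.PullTensor.pullTensor e.iso.hom _ _ ≪≫ (Scheme.Modules.pullback e.iso.hom).mapIso t⟩

omit [IsProper f] in
/-- The type of a tensor power. -/
theorem isTwPow_tensorPow {W : X.Modules} (hW : FlatMod.IsFinLocFree W) {r : ℕ} (h : BrSev.IsTwPow e 1 r W) (m : ℕ) :
    FlatMod.IsFinLocFree (CohB1.tensorPow W m) ∧ BrSev.IsTwPow e (m : ℤ) (r ^ m) (CohB1.tensorPow W m) := by
  induction m with
  | zero =>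
    refine ⟨Groth.L16.Existence.isFinLocFree_of_isInvertible (Groth.L18.Ample.isInvertible_structureModule X), ?_⟩
    obtain ⟨z⟩ := Groth.L16.ProjTwist.nonempty_twist_zero_iso (CohB1.polyGrading d K)
    haveI : Unique (Fin (r ^ 0)) := by rw [pow_zero]; infer_instance
    exact ⟨Groth.L29.LocFree.pullbackUnitIso (BrSev.proj f K) ≪≫
      (Groth.L29.LocFree.pullbackUnitIso e.iso.hom).symm ≪≫ (Scheme.Modules.pullback e.iso.hom).mapIso z.symm ≪≫
      (coproductUniqueIso fun _ : Fin (r ^ 0) => e.twist ((0 : ℕ) : ℤ)).symm⟩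
  | succ m ih =>
    obtain ⟨ihf, ⟨a⟩⟩ := ih
    obtain ⟨b⟩ := h
    obtain ⟨t⟩ := nonempty_twist_add f e (m : ℤ) 1
    obtain ⟨c⟩ := Groth.L24.KrullSchmidt.exists_tensor_type_pow (BrSev.proj f K) a b t
    refine ⟨Groth.L29.DC.isFinLocFree_tensor ihf hW, ?_⟩
    rw [pow_succ, Nat.cast_succ]
    exact ⟨c⟩

/-- A bundle of a type is a power of the indecomposable one. -/
theorem nonempty_iso_pow (hXo : X.Over (Spec (CommRingCat.of k)))
    (hf : (letI := hXo; X ↘ Spec (CommRingCat.of k)) = f) {W V : X.Modules} (hW : FlatMod.IsFinLocFree W)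
    (hWi : Groth.L24.KrullSchmidt.Indec W) (hV : FlatMod.IsFinLocFree V) {j : ℤ} {r s : ℕ}
    (hWt : BrSev.IsTwPow e j r W) (hVt : BrSev.IsTwPow e j s V) :
    ∃ c : ℕ, Nonempty (V ≅ ∐ fun _ : Fin c => W) := by
  classical
  letI := hXo
  haveI : IsProper (X ↘ Spec (CommRingCat.of k)) := by rw [hf]; infer_instance
  letI : (BrSev.bc f K).Over (Spec (CommRingCat.of K)) := ⟨BrSev.bcTo f K⟩
  have sq : IsPullback (BrSev.proj f K) (BrSev.bc f K ↘ Spec (CommRingCat.of K))
      (X ↘ Spec (CommRingCat.of k)) (Spec.map (CommRingCat.ofHom (algebraMap k K))) := by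
    rw [hf]; exact IsPullback.of_hasPullback f (Spec.map (CommRingCat.ofHom (algebraMap k K)))
  haveI : IsProper (BrSev.bc f K ↘ Spec (CommRingCat.of K)) :=
    MorphismProperty.of_isPullback (P := @IsProper) sq inferInstance
  haveI : IsLocallyNoetherian X := LocallyOfFiniteType.isLocallyNoetherian (X ↘ Spec (CommRingCat.of k))
  haveI : IsLocallyNoetherian (BrSev.bc f K) :=
    LocallyOfFiniteType.isLocallyNoetherian (BrSev.bc f K ↘ Spec (CommRingCat.of K))
  obtain ⟨a⟩ := hWt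
  obtain ⟨b⟩ := hVt
  have hLi := Groth.L24.GalPush.indec_twist f e j
  have hLf := Groth.L16.Existence.isFinLocFree_of_isInvertible (Groth.L24.GalPush.isInvertible_twist f e j)
  haveI : Module.Finite K (e.twist j ⟶ e.twist j) := Groth.L14.Quot.finite_hom
    (Groth.L16.NegPow.isCoh_of_isFinLocFree hLf) (Groth.L16.NegPow.isCoh_of_isFinLocFree hLf)
  haveI : Module.Finite k (V ⟶ V) := Groth.L14.Quot.finite_hom (Groth.L16.NegPow.isCoh_of_isFinLocFree hV)
    (Groth.L16.NegPow.isCoh_of_isFinLocFree hV)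
  obtain ⟨c, F, hF, ⟨i⟩⟩ := Groth.L24.KrullSchmidt.exists_decomp k _ V rfl
  have hiso : ∀ l, Nonempty (F l ≅ W) := fun l => by
    have hret := (Groth.L24.KrullSchmidt.isRetract_member F l).trans (Groth.L21.Weil.IsRetract.of_iso i.symm)
    have hlf := Groth.L24.KrullSchmidt.isFinLocFree_retract hV hret
    have hP := Groth.L16.NegPow.isCoh_of_isFinLocFree (Groth.L29.LocFree.pullback (BrSev.proj f K) hlf)
    haveI : Module.Finite K ((Scheme.Modules.pullback (BrSev.proj f K)).obj (F l) ⟶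
        (Scheme.Modules.pullback (BrSev.proj f K)).obj (F l)) := Groth.L14.Quot.finite_hom hP hP
    obtain ⟨q, p, hqp⟩ := hret
    obtain ⟨m, ⟨am⟩⟩ := Groth.L24.KrullSchmidt.exists_pow_of_retract K hLi
      (A := (Scheme.Modules.pullback (BrSev.proj f K)).obj (F l)) (r := s)
      (Groth.L21.Weil.IsRetract.trans ⟨(Scheme.Modules.pullback (BrSev.proj f K)).map q,
        (Scheme.Modules.pullback (BrSev.proj f K)).map p,
        by rw [← Functor.map_comp, hqp, CategoryTheory.Functor.map_id]⟩ (Groth.L21.Weil.IsRetract.of_iso b))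
    exact Groth.L24.KrullSchmidt.nonempty_iso_of_isotypical (BrSev.proj f K) sq hlf hW (hF l) hWi m r am a
  exact ⟨c, ⟨i ≪≫ Sigma.mapIso fun l => (hiso l).some⟩⟩

end Geometry

section Main

variable {k : Type u} [Field k] {A : Type u} [Ring A] [Algebra k A] [Algebra.IsCentral k A] [IsSimpleRing A]
  {n : ℕ} (hn : 0 < n) (hA : Module.finrank k A = n * n) {X : Scheme.{u}} (f : X ⟶ Spec (CommRingCat.of k))
  [IsProper f] (hX : BrSev.IsSBOf k A (n * n - n) f)
  {K : Type u} [Field K] [Algebra k K] [IsAlgClosure k K] (e : BrSev.Splitting f K (n - 1))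

include hn hA hX in
/-- The multiplicity in a non-negative degree. -/
theorem isIndex_natType (W : X.Modules) (hW : FlatMod.IsFinLocFree W) (hWi : Groth.L24.KrullSchmidt.Indec W)
    (m r : ℕ) (hr : 0 < r) (hWt : BrSev.IsTwPow e (m : ℤ) r W) :
    CSAGal.IsIndex k (CSAGal.tpow k A m) r := by
  classical
  letI : X.Over (Spec (CommRingCat.of k)) := ⟨f⟩
  haveI : IsProper (X ↘ Spec (CommRingCat.of k)) := ‹IsProper f›
  letI : (BrSev.bc f K).Over (Spec (CommRingCat.of K)) := ⟨BrSev.bcTo f K⟩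
  haveI : IsAlgClosed K := IsAlgClosure.isAlgClosed k
  have sq : IsPullback (BrSev.proj f K) (BrSev.bc f K ↘ Spec (CommRingCat.of K))
      (X ↘ Spec (CommRingCat.of k)) (Spec.map (CommRingCat.ofHom (algebraMap k K))) :=
    IsPullback.of_hasPullback f (Spec.map (CommRingCat.ofHom (algebraMap k K)))
  haveI : FiniteDimensional k A := Module.finite_of_finrank_pos (by rw [hA]; exact Nat.mul_pos hn hn)
  have hk := Groth.L24.GalPush.bijective_toGlobal_bc f e
  obtain ⟨K₀, _, _, hfin, hgal, ⟨e₀⟩⟩ := Groth.Agent.S14209.result k A n hn hA f hX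
  obtain ⟨W₁, r₁, hW₁, -, hr₁, hW₁t⟩ := Groth.L24.GalPush.exists_indec_twPow f e₀ e 1
  obtain ⟨T₁, -, ⟨t₁⟩⟩ := Groth.L08.Cube.exists_inverse (Groth.L24.GalPush.isInvertible_twist f e 1)
  obtain ⟨φ₁⟩ := exists_endAlg (BrSev.proj f K) sq hk t₁ hW₁ hW₁t.some
  obtain ⟨hD1, hD2, hD3, hD4⟩ := csa_of_equiv hr₁ φ₁
  -- same index of the powers
  obtain ⟨i, hi⟩ := exists_beq_tpow (A := A) (B := End W₁) hn hA fun L _ _ hL =>
    splits_end_of_splits hn hA f rfl hX e hW₁ hW₁t L hr₁ hL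
  obtain ⟨i', hi'⟩ := exists_beq_tpow (A := End W₁) (B := A) hr₁ hD4 fun L _ _ hL =>
    splits_of_splits_end hn hA f rfl hX e hW₁ hW₁t L hL
  obtain ⟨hA1, hA2, hA3⟩ := Groth.L11.TPow.csa k A m
  obtain ⟨hT1, hT2, hT3⟩ := Groth.L11.TPow.csa k (End W₁) m
  obtain ⟨a, ha⟩ := Groth.L11.Idx.exists_isIndex (k := k) (A := CSAGal.tpow k A m)
  obtain ⟨b, hb⟩ := Groth.L11.Idx.exists_isIndex (k := k) (A := CSAGal.tpow k (End W₁) m)
  obtain rfl : a = b := Nat.dvd_antisymm (index_tpow_dvd hi' m hb ha) (index_tpow_dvd hi m ha hb)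
  -- the tensor power
  obtain ⟨hVf, hVt⟩ := isTwPow_tensorPow f e hW₁ hW₁t m
  obtain ⟨Tm, -, ⟨tm⟩⟩ := Groth.L08.Cube.exists_inverse (Groth.L24.GalPush.isInvertible_twist f e (m : ℤ))
  obtain ⟨φV⟩ := exists_endAlg (BrSev.proj f K) sq hk tm hVf hVt.some
  obtain ⟨-, hV2, hV3, hV4⟩ := csa_of_equiv (pow_pos hr₁ m) φV
  obtain ⟨Ψ⟩ := exists_tpowHom (k := k) W₁ m
  have hinj : Function.Injective Ψ := Ψ.toRingHom.injective
  have hbij : Function.Bijective Ψ := ⟨hinj,
    (LinearMap.injective_iff_surjective_of_finrank_eq_finrank (f := Ψ.toLinearMap)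
      (by rw [Groth.L11.Amitsur.finrank_tpow, hD4, hV4, mul_pow])).1 hinj⟩
  obtain ⟨c, ⟨iV⟩⟩ := nonempty_iso_pow f e inferInstance rfl hW hWi hVf hWt hVt
  have hc : c ≠ 0 := by
    rintro rfl
    have hz : IsZero (CohB1.tensorPow W₁ m) := ((IsZero.iff_id_eq_zero _).2 (Sigma.hom_ext _ _ fun i => i.elim0)).of_iso iV
    haveI : Subsingleton (End (CohB1.tensorPow W₁ m)) := ⟨fun x y => hz.eq_of_src x y⟩
    rw [Module.finrank_zero_of_subsingleton] at hV4
    exact absurd hV4.symm (Nat.mul_pos (pow_pos hr₁ m) (pow_pos hr₁ m)).ne'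
  obtain ⟨μ⟩ := exists_endPow (k := k) W c
  have hbeq : BEq k (CSAGal.tpow k (End W₁) m) (End W) :=
    (BEq.of_algEquiv (((AlgEquiv.ofBijective Ψ hbij).trans (endCongr iV)).trans μ)).trans (BEq.matrix_left _ hc)
  obtain ⟨TW, -, ⟨tW⟩⟩ := Groth.L08.Cube.exists_inverse (Groth.L24.GalPush.isInvertible_twist f e (m : ℤ))
  obtain ⟨φW⟩ := exists_endAlg (BrSev.proj f K) sq hk tW hW hWt.some
  obtain ⟨hE1, hE2, hE3, -⟩ := csa_of_equiv hr φW
  obtain rfl : r = a := Groth.L11.Idx.isIndex_eq_of_beq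
    (isIndex_end (BrSev.proj f K) sq hk tW hW hWi hr hWt.some) hb hbeq.symm
  exact ha

include hn hA hX in
/-- The multiplicity is the index of the power. -/
theorem isIndex_type (W : X.Modules) (hW : FlatMod.IsFinLocFree W) (hWi : Groth.L24.KrullSchmidt.Indec W)
    (j : ℤ) (r : ℕ) (hr : 0 < r) (hWt : BrSev.IsTwPow e j r W) :
    CSAGal.IsIndex k (CSAGal.tpow k A j.natAbs) r := by
  haveI : IsAlgClosed K := IsAlgClosure.isAlgClosed k
  rcases Int.natAbs_eq j with hj | hj
  · exact isIndex_natType hn hA f hX e W hW hWi j.natAbs r hr (by rw [← hj]; exact hWt)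
  · obtain ⟨K₀, _, _, hfin, hgal, ⟨e₀⟩⟩ := Groth.Agent.S14209.result k A n hn hA f hX
    obtain ⟨W', r', hW', hW'i, hr', hW't⟩ := Groth.L24.GalPush.exists_indec_twPow f e₀ e (j.natAbs : ℤ)
    obtain rfl : r = r' := Groth.Agent.S14202.result k f (n - 1) K e j W W' hW hW' hWi hW'i r r' hr hr' hWt
      (by rw [show -j = (j.natAbs : ℤ) by omega]; exact hW't)
    exact isIndex_natType hn hA f hX e W' hW' hW'i j.natAbs r hr hW't

end Main

end Groth.L24.SB
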