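import Groth.Agent.L24.SB.RatPoint
import Groth.Agent.L24.SB.Veronese
import Groth.Agent.L24.SB.TensorEnd
import Groth.Agent.L24.SB.Index
import Groth.Agent.L08.Rosen.OverField

/-!
# Brauer–Severi schemes are smooth, geometrically integral, projective and separably split
-/

set_option autoImplicit false
set_option linter.style.haveILetI false
set_option backward.isDefEq.respectTransparency false
set_option backward.isDefEq.respectTransparency.types false

universe u

open CategoryTheory CategoryTheory.Limits AlgebraicGeometry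
open scoped TensorProduct
open Groth.L11.Br (BEq)

noncomputable section

namespace Groth.L24.SB

variable {k : Type u} [Field k] {X : Scheme.{u}} (f : X ⟶ Spec (CommRingCat.of k)) {n : ℕ}

/-- The base change of a form is a form. -/
theorem exists_splitting_bc {L Ω : Type u} [Field L] [Field Ω] [Algebra k L] [Algebra k Ω] [Algebra L Ω]
    [IsScalarTower k L Ω] (e : BrSev.Splitting f Ω n) : Nonempty (BrSev.Splitting (BrSev.bcTo f L) Ω n) := by
  obtain ⟨t, -, sqt⟩ := exists_tower f (IsScalarTower.toAlgHom k L Ω)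
  let b := (IsPullback.of_hasPullback (BrSev.bcTo f L)
    (Spec.map (CommRingCat.ofHom (algebraMap L Ω)))).isoIsPullback _ _ sqt
  exact ⟨⟨b ≪≫ e.iso, by
    rw [Iso.trans_hom, Category.assoc, e.comm]
    exact IsPullback.isoIsPullback_hom_snd _ _ _ _⟩⟩

/-- A form is split by every algebraically closed extension. -/
theorem exists_splitting_closed {K : Type u} [Field K] [Algebra k K] (e : BrSev.Splitting f K n) (Ω : Type u)
    [Field Ω] [Algebra k Ω] [IsAlgClosed Ω] : Nonempty (BrSev.Splitting f Ω n) := by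
  obtain ⟨M, _, _, hfin, ⟨eM⟩⟩ := exists_finite_splitting f e
  exact exists_splitting_ext f (IsAlgClosed.lift (R := k) (S := M) (M := Ω)) eM

theorem smooth_of_splitting {K : Type u} [Field K] [Algebra k K] (e : BrSev.Splitting f K n) : Smooth f := by
  haveI := isProper_of_splitting f e
  haveI h : Smooth (BrSev.bcTo f K) := by rw [← e.comm]; infer_instance
  have hQ : (@Surjective ⊓ @Flat ⊓ @QuasiCompact : MorphismProperty Scheme.{u})
      (Spec.map (CommRingCat.ofHom (algebraMap k K))) :=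
    ⟨⟨Groth.L03.ShStab.BC.surjective_specMap K, Groth.L03.ShStab.BC.flat_specMap K⟩, inferInstance⟩
  exact MorphismProperty.of_isPullback_of_descendsAlong (P := (@Smooth : MorphismProperty Scheme.{u}))
    (IsPullback.of_hasPullback f (Spec.map (CommRingCat.ofHom (algebraMap k K)))).flip hQ h

theorem geometricallyIntegral_of_splitting {K : Type u} [Field K] [Algebra k K] (e : BrSev.Splitting f K n) :
    GeometricallyIntegral f := by
  refine ⟨fun L _ y Y g q sq => ?_⟩
  letI : Algebra k L := (Spec.preimage y).hom.toAlgebra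
  have hy : Spec.map (CommRingCat.ofHom (algebraMap k L)) = y := Spec.map_preimage y
  obtain ⟨eΩ⟩ := exists_splitting_closed f e (AlgebraicClosure L)
  obtain ⟨eb⟩ := exists_splitting_bc f (L := L) eΩ
  haveI : IsIntegral (BrSev.bc f L) := (Groth.L11.SBStable.props_of_splitting (BrSev.bcTo f L) eb).1
  rw [← hy] at sq
  haveI : Nonempty Y := ⟨sq.isoPullback.inv (genericPoint (BrSev.bc f L))⟩
  exact isIntegral_of_isOpenImmersion sq.isoPullback.hom

/-- Some positive twist is defined over the ground field. -/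
theorem exists_positive_line {K : Type u} [Field K] [Algebra k K] (e : BrSev.Splitting f K n) :
    ∃ (L : Type u) (_ : Field L) (_ : Algebra k L) (eL : BrSev.Splitting f L n) (d : ℕ) (M : X.Modules),
      0 < d ∧ PicF.IsInvertible M ∧ BrSev.IsTwPow eL (d : ℤ) 1 M := by
  classical
  haveI := isProper_of_splitting f e
  let Ω := AlgebraicClosure k
  obtain ⟨eΩ⟩ := exists_splitting_closed f e Ω
  letI : X.Over (Spec (CommRingCat.of k)) := ⟨f⟩
  haveI : IsProper (X ↘ Spec (CommRingCat.of k)) := ‹IsProper f›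
  letI : (BrSev.bc f Ω).Over (Spec (CommRingCat.of Ω)) := ⟨BrSev.bcTo f Ω⟩
  haveI : IsProper (BrSev.bc f Ω ↘ Spec (CommRingCat.of Ω)) := inferInstanceAs (IsProper (BrSev.bcTo f Ω))
  let g := BrSev.proj f Ω
  have sq : IsPullback g (BrSev.bc f Ω ↘ Spec (CommRingCat.of Ω)) (X ↘ Spec (CommRingCat.of k))
      (Spec.map (CommRingCat.ofHom (algebraMap k Ω))) :=
    IsPullback.of_hasPullback f (Spec.map (CommRingCat.ofHom (algebraMap k Ω)))
  haveI : IsLocallyNoetherian (BrSev.bc f Ω) :=
    LocallyOfFiniteType.isLocallyNoetherian (BrSev.bc f Ω ↘ Spec (CommRingCat.of Ω))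
  haveI : Flat g := MorphismProperty.of_isPullback (P := @Flat) sq.flip (Groth.L03.ShStab.BC.flat_specMap Ω)
  haveI : Surjective g :=
    MorphismProperty.of_isPullback (P := @Surjective) sq.flip (Groth.L03.ShStab.BC.surjective_specMap Ω)
  have hk := Groth.L24.GalPush.bijective_toGlobal_bc f eΩ
  obtain ⟨W, r, hW, hWi, hr, hWt⟩ := exists_indec_twPow_alg f eΩ 1
  obtain ⟨T₁, -, ⟨t₁⟩⟩ := Groth.L08.Cube.exists_inverse (Groth.L24.GalPush.isInvertible_twist f eΩ 1)
  obtain ⟨φ₁⟩ := exists_endAlg g sq hk t₁ hW hWt.some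
  obtain ⟨hD1, hD2, hD3, hD4⟩ := csa_of_equiv hr φ₁
  have hsp := Groth.L11.Idx.splits_tpow_index (isIndex_end g sq hk t₁ hW hWi hr hWt.some)
  obtain ⟨hT1, hT2, hT3⟩ := Groth.L11.TPow.csa k (End W) r
  obtain ⟨hPf, hPt⟩ := isTwPow_tensorPow f eΩ hW hWt r
  obtain ⟨T, -, ⟨t⟩⟩ := Groth.L08.Cube.exists_inverse (Groth.L24.GalPush.isInvertible_twist f eΩ (r : ℤ))
  obtain ⟨φP⟩ := exists_endAlg g sq hk t hPf hPt.some
  obtain ⟨-, -, hP3, hP4⟩ := csa_of_equiv (pow_pos hr r) φP
  obtain ⟨Ψ⟩ := exists_tpowHom (k := k) W r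
  haveI : Nontrivial (End (CohB1.tensorPow W r)) :=
    Module.nontrivial_of_finrank_pos (R := k) (by rw [hP4]; exact Nat.mul_pos (pow_pos hr r) (pow_pos hr r))
  have hinj : Function.Injective Ψ := Ψ.toRingHom.injective
  have hbij : Function.Bijective Ψ := ⟨hinj,
    (LinearMap.injective_iff_surjective_of_finrank_eq_finrank (f := Ψ.toLinearMap)
      (by rw [Groth.L11.Amitsur.finrank_tpow, hD4, hP4, mul_pow])).1 hinj⟩
  obtain ⟨V, a, hV, hVi, ha, hVt⟩ := exists_indec_twPow_alg f eΩ (r : ℤ)
  obtain ⟨c, ⟨iV⟩⟩ := nonempty_iso_pow f eΩ inferInstance rfl hV hVi hPf hVt hPt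
  have hc : c ≠ 0 := by
    rintro rfl
    have hz : IsZero (CohB1.tensorPow W r) :=
      ((IsZero.iff_id_eq_zero _).2 (Sigma.hom_ext _ _ fun i => i.elim0)).of_iso iV
    haveI : Subsingleton (End (CohB1.tensorPow W r)) := ⟨fun x y => hz.eq_of_src x y⟩
    rw [Module.finrank_zero_of_subsingleton] at hP4
    exact absurd hP4.symm (Nat.mul_pos (pow_pos hr r) (pow_pos hr r)).ne'
  obtain ⟨μ⟩ := exists_endPow (k := k) V c
  obtain ⟨φV⟩ := exists_endAlg g sq hk t hV hVt.some
  obtain ⟨hV1, hV2, hV3, -⟩ := csa_of_equiv ha φV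
  have hbeq : BEq k (End V) (CSAGal.tpow k (End W) r) :=
    ((BEq.of_algEquiv (((AlgEquiv.ofBijective Ψ hbij).trans (endCongr iV)).trans μ)).trans (BEq.matrix_left _ hc)).symm
  obtain rfl : a = 1 := Nat.eq_one_of_dvd_one ((Module.finrank_self k) ▸ Groth.L11.Idx.dvd_of_splits
    (isIndex_end g sq hk t hV hVi ha hVt.some) k (Groth.L11.Br.splits_of_beq hbeq k hsp))
  refine ⟨Ω, inferInstance, inferInstance, eΩ, r, V, hr, ?_, hVt⟩
  obtain ⟨b⟩ := hVt
  exact isInvertible_of_pullback_invertible g hV (Groth.L18.Ample.isInvertible_of_iso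
    (b ≪≫ coproductUniqueIso _).symm (Groth.L24.GalPush.isInvertible_twist f eΩ _))

/-- A form is split by a finite Galois extension. -/
theorem exists_galois_splitting_form {K : Type u} [Field K] [Algebra k K] (e : BrSev.Splitting f K n) :
    ∃ (N : Type u) (_ : Field N) (_ : Algebra k N), FiniteDimensional k N ∧ IsGalois k N ∧
      Nonempty (BrSev.Splitting f N n) := by
  haveI := isProper_of_splitting f e
  letI : X.Over (Spec (CommRingCat.of k)) := ⟨f⟩
  haveI : Smooth (X ↘ Spec (CommRingCat.of k)) := smooth_of_splitting f e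
  haveI := (Groth.L11.SBStable.props_of_splitting f e).1
  haveI : Nonempty X := ⟨genericPoint X⟩
  obtain ⟨L, _, _, hfin, hsep, s, hs⟩ := Groth.L08.Rosen.exists_sep_point_scheme (k := k) X
  obtain ⟨eΩ⟩ := exists_splitting_closed f e (AlgebraicClosure L)
  obtain ⟨eb⟩ := exists_splitting_bc f (L := L) eΩ
  obtain ⟨eL⟩ := nonempty_splitting_of_point (BrSev.bcTo f L) (pullback.lift s (𝟙 _) (by
    rw [Category.id_comp]; exact hs)) (pullback.lift_snd _ _ _) eb
  -- the splitting over `L` itself
  have hid : Spec.map (CommRingCat.ofHom (algebraMap L L)) = 𝟙 _ := by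
    rw [Algebra.algebraMap_self, CommRingCat.ofHom_id, Spec.map_id]
  haveI : IsIso (BrSev.proj (BrSev.bcTo f L) L) := by
    haveI : IsIso (Spec.map (CommRingCat.ofHom (algebraMap L L))) := by rw [hid]; infer_instance
    exact inferInstanceAs (IsIso (pullback.fst (BrSev.bcTo f L) (Spec.map (CommRingCat.ofHom (algebraMap L L)))))
  have e' : BrSev.Splitting f L n := ⟨(asIso (BrSev.proj (BrSev.bcTo f L) L)).symm ≪≫ eL.iso, by
    rw [Iso.trans_hom, Iso.symm_hom, Category.assoc, eL.comm, asIso_inv, IsIso.inv_comp_eq]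
    exact ((congrArg (fun x => BrSev.bcTo (BrSev.bcTo f L) L ≫ x) hid).trans (Category.comp_id _)).symm.trans
      pullback.condition.symm⟩
  let S := SeparableClosure k
  let σ : L →ₐ[k] S := IsSepClosed.lift
  let N := IntermediateField.normalClosure k L S
  haveI : Normal k N := normalClosure.normal k L S
  exact ⟨N, inferInstance, inferInstance, inferInstance, ⟨⟩,
    exists_splitting_ext f (σ.codRestrict N.toSubalgebra fun x => AlgHom.fieldRange_le_normalClosure σ ⟨x, rfl⟩) e'⟩

end Groth.L24.SB
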