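import Groth.Agent.L24.SB.Period
import Groth.Agent.L26.Pic0.AmpleFibre
import Groth.Agent.L22.PDual.Horrocks
import Groth.Agent.L22.PDual.RegVanish
import Groth.Agent.L22.PDual.EnriquesSeveri
import Groth.Agent.L20.PnPic.Main

/-!
# The cohomological criterion for absolute splitting
-/

set_option autoImplicit false
set_option linter.style.haveILetI false
set_option backward.isDefEq.respectTransparency false
set_option backward.isDefEq.respectTransparency.types false

universe u

open CategoryTheory CategoryTheory.Limits AlgebraicGeometry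
open Groth.L00.Tensor (tensorRightF tensorLeftF tensorIso)

noncomputable section

namespace Groth.L24.SB

open Groth.L22.Reg (O' tw')
open Groth.L16.CohLinear (hmap hmap_comp hmap_id)

/-- Horrocks for vector bundles on projective space. -/
theorem iff_split_locFree {K : Type u} [Field K] {d : ℕ} {F : (CohB1.ProjSpace d K).Modules}
    (hF : FlatMod.IsFinLocFree F) :
    (∃ (r : ℕ) (a : Fin r → ℤ), Nonempty (F ≅ ∐ fun j => O' d K (a j))) ↔
      ∀ (t : ℤ) (i : ℕ), 0 < i → i < d → Subsingleton (Coh.HH (CohB1.ProjSpace d K) (tw' F t) i) := by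
  haveI := Groth.L22.PDual.proper d K
  haveI := Groth.L21.RR.isNoetherian_of_proper (X := CohB1.ProjSpace d K) K
  have hc : Coh.IsCoh F := Groth.L16.NegPow.isCoh_of_isFinLocFree hF
  refine ⟨fun ⟨r, a, ⟨e⟩⟩ t i h1 h2 =>
    Groth.L22.PDual.subsingleton_sigma_mid a e t fun j => ⟨fun h => by omega, fun h => by omega⟩, fun h => ?_⟩
  rcases Nat.eq_zero_or_pos d with rfl | hd
  · obtain ⟨r, a, e, -⟩ := Groth.L22.PDual.split hc (Or.inl rfl) h
    exact ⟨r, a, e⟩
  · refine (Groth.L22.PDual.iff_split hd hc).2 ⟨?_, h⟩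
    exact (Groth.L22.PDual.isFinLocFree_iff_vanish (𝟙 (CohB1.ProjSpace d K))
      Groth.L22.PDual.regular_stalk d (Groth.L16.ProjSpace.topologicalKrullDim_eq_of_field (n := d) K)
      (fun m => O' d K m) (fun m => ⟨(Scheme.Modules.pullbackId (CohB1.ProjSpace d K)).app _⟩) hc).1 hF 0 hd

/-- Vanishing of cohomology ascends along extensions of the ground field. -/
theorem subsingleton_HH_field_pullback {k K : Type u} [Field k] [Field K] {P Q : Scheme.{u}}
    (f : P ⟶ Spec (CommRingCat.of k)) [IsProper f] (φ : Spec (CommRingCat.of K) ⟶ Spec (CommRingCat.of k))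
    [Flat φ] {f' : Q ⟶ Spec (CommRingCat.of K)} {g : Q ⟶ P} (sq : IsPullback g f' f φ) (M : P.Modules)
    (hM : Coh.IsCoh M) (n : ℕ) (h : Subsingleton (Coh.HH P M n)) :
    Subsingleton (Coh.HH Q ((Scheme.Modules.pullback g).obj M) n) := by
  haveI : Coh.IsQCoh M := hM.1
  haveI : HasInjectiveResolutions P.Modules := Groth.L17.PushQCoh.hasInjectiveResolutions _
  haveI : HasInjectiveResolutions Q.Modules := Groth.L17.PushQCoh.hasInjectiveResolutions _
  haveI : IsProper f' := MorphismProperty.of_isPullback sq inferInstance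
  haveI := Groth.L17.CxTools.preservesFiniteLimits_pullback φ
  haveI : Coh.IsQCoh ((Scheme.Modules.pullback g).obj M) := Groth.L16.AffineBC.isQCoh_pullback _ _
  obtain ⟨eBC⟩ := Groth.L17.CxIso.nonempty_iso (M := M) f φ g f' sq n
  exact (Groth.Agent.Pic0.subsingleton_HH_iff f' _ n).2
    (((Scheme.Modules.pullback φ).map_isZero ((Groth.Agent.Pic0.subsingleton_HH_iff f M n).1 h)).of_iso eBC.symm)

/-- Cohomology of a nonempty sum of copies. -/
theorem subsingleton_HH_const_iff {X : Scheme.{u}} (A : X.Modules) {r : ℕ} (hr : 0 < r) (q : ℕ) :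
    Subsingleton (Coh.HH X (∐ fun _ : Fin r => A) q) ↔ Subsingleton (Coh.HH X A q) := by
  refine ⟨fun h => ?_, fun h => Groth.L16.ProjSpace.subsingleton_sigma _ q fun _ => h⟩
  let i : A ⟶ ∐ fun _ : Fin r => A := Sigma.ι (fun _ : Fin r => A) ⟨0, hr⟩
  let p : (∐ fun _ : Fin r => A) ⟶ A := Sigma.desc fun _ => 𝟙 A
  have hip : i ≫ p = 𝟙 A := Sigma.ι_desc _ _
  exact (show Function.Injective (hmap i q) from fun x y hxy => by
    rw [← hmap_id q x, ← hmap_id q y, ← hip, hmap_comp, hmap_comp, hxy]).subsingleton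

variable {k : Type u} [Field k] {X : Scheme.{u}} (f : X ⟶ Spec (CommRingCat.of k))
  {K : Type u} [Field K] [Algebra k K] {d : ℕ} (e : BrSev.Splitting f K d)

/-- Absolute splitting in terms of the module on projective space. -/
theorem split_iff_twists (E : X.Modules) :
    (∃ (s : ℕ) (Ls : Fin s → (BrSev.bc f K).Modules), (∀ i, PicF.IsInvertible (Ls i)) ∧
        Nonempty (BrSev.bcMod f K E ≅ ∐ Ls)) ↔
      ∃ (r : ℕ) (a : Fin r → ℤ),
        Nonempty ((Scheme.Modules.pullback e.iso.inv).obj (BrSev.bcMod f K E) ≅ ∐ fun j => O' d K (a j)) := by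
  haveI := (Scheme.Modules.pullbackPushforwardAdjunction e.iso.inv).leftAdjoint_preservesColimits
  haveI := (Scheme.Modules.pullbackPushforwardAdjunction e.iso.hom).leftAdjoint_preservesColimits
  haveI : PreservesColimitsOfSize.{0, 0} (Scheme.Modules.pullback e.iso.inv) :=
    preservesColimitsOfSize_shrink.{0, u, 0, u} _
  haveI : PreservesColimitsOfSize.{0, 0} (Scheme.Modules.pullback e.iso.hom) :=
    preservesColimitsOfSize_shrink.{0, u, 0, u} _
  constructor
  · rintro ⟨s, Ls, hLs, ⟨a⟩⟩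
    have h : ∀ i, ∃ m : ℤ, Nonempty ((Scheme.Modules.pullback e.iso.inv).obj (Ls i) ≅ O' d K m) := fun i =>
      Groth.L20.PnPic.exists_iso_twist _ (Groth.L18.Ample.isInvertible_pullback e.iso.inv (hLs i))
    choose m hm using h
    exact ⟨s, m, ⟨(Scheme.Modules.pullback e.iso.inv).mapIso a ≪≫
      PreservesCoproduct.iso (Scheme.Modules.pullback e.iso.inv) Ls ≪≫ Sigma.mapIso fun i => (hm i).some⟩⟩
  · rintro ⟨r, a, ⟨b⟩⟩
    refine ⟨r, fun j => e.twist (a j), fun j => Groth.L24.GalPush.isInvertible_twist f e _, ⟨?_⟩⟩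
    exact (((Scheme.Modules.pullbackComp e.iso.hom e.iso.inv).app _ ≪≫
      (Scheme.Modules.pullbackCongr e.iso.hom_inv_id).app _ ≪≫ (Scheme.Modules.pullbackId _).app _).symm ≪≫
      (Scheme.Modules.pullback e.iso.hom).mapIso b ≪≫
      PreservesCoproduct.iso (Scheme.Modules.pullback e.iso.hom) (fun j => O' d K (a j)))

/-- A twisted module on the base change. -/
theorem subsingleton_tensor_types_iff {E L W : X.Modules} {a j : ℤ} {r : ℕ} (hr : 0 < r)
    (hL : BrSev.IsTwPow e a 1 L) (hW : BrSev.IsTwPow e j r W) (i : ℕ) :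
    Subsingleton (Coh.HH (BrSev.bc f K)
        ((Scheme.Modules.pullback (BrSev.proj f K)).obj (CohB1.tensorMod (CohB1.tensorMod E L) W)) i) ↔
      Subsingleton (Coh.HH (CohB1.ProjSpace d K)
        (tw' ((Scheme.Modules.pullback e.iso.inv).obj (BrSev.bcMod f K E)) (a + j)) i) := by
  obtain ⟨x⟩ := hL
  obtain ⟨y⟩ := hW
  let g := BrSev.proj f K
  let h := e.iso.hom
  let F := (Scheme.Modules.pullback e.iso.inv).obj (BrSev.bcMod f K E)
  let eF : BrSev.bcMod f K E ≅ (Scheme.Modules.pullback h).obj F :=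
    ((Scheme.Modules.pullbackComp e.iso.hom e.iso.inv).app _ ≪≫
      (Scheme.Modules.pullbackCongr e.iso.hom_inv_id).app _ ≪≫ (Scheme.Modules.pullbackId _).app _).symm
  let N := (Scheme.Modules.pullback h).obj (tw' F (a + j))
  obtain ⟨t⟩ := Groth.L22.Reg.nonempty_tw_tw F (show a + j = a + j from rfl)
  let e1 : (Scheme.Modules.pullback g).obj (CohB1.tensorMod E L) ≅ (Scheme.Modules.pullback h).obj (tw' F a) :=
    (Groth.L29.DC.PullTensor.pullTensor g E L).symm ≪≫ tensorIso eF (x ≪≫ coproductUniqueIso _) ≪≫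
      Groth.L29.DC.PullTensor.pullTensor h F (O' d K a)
  haveI : PreservesColimitsOfSize.{0, 0} (tensorLeftF ((Scheme.Modules.pullback h).obj (tw' F a))) :=
    preservesColimitsOfSize_shrink.{0, u, 0, u} _
  let e2 : (Scheme.Modules.pullback g).obj (CohB1.tensorMod (CohB1.tensorMod E L) W) ≅ ∐ fun _ : Fin r => N :=
    (Groth.L29.DC.PullTensor.pullTensor g _ W).symm ≪≫ tensorIso e1 y ≪≫
      PreservesCoproduct.iso (tensorLeftF ((Scheme.Modules.pullback h).obj (tw' F a))) (fun _ : Fin r => e.twist j) ≪≫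
      Sigma.mapIso fun _ => Groth.L29.DC.PullTensor.pullTensor h (tw' F a) (O' d K j) ≪≫
        (Scheme.Modules.pullback h).mapIso t
  obtain ⟨q⟩ := Groth.Agent.Pic0.nonempty_HH_pullback h (tw' F (a + j)) i
  rw [show Subsingleton (Coh.HH (BrSev.bc f K)
      ((Scheme.Modules.pullback g).obj (CohB1.tensorMod (CohB1.tensorMod E L) W)) i) ↔
      Subsingleton (Coh.HH (BrSev.bc f K) (∐ fun _ : Fin r => N) i) from
    ⟨Groth.Agent.Pic0.subsingleton_HH_congr e2 i, Groth.Agent.Pic0.subsingleton_HH_congr e2.symm i⟩,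
    subsingleton_HH_const_iff N hr]
  exact q.toEquiv.subsingleton_congr

end Groth.L24.SB
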