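import Groth.Agent.L11.CSA.PeriodIndex

/-!
# The index of powers depends on the exponent up to sign and modulo the period
-/

set_option autoImplicit false
set_option linter.style.haveILetI false

universe u

open scoped TensorProduct
open Groth.L11.Br (BEq)

noncomputable section

namespace Groth.L24.SB

variable {k : Type u} [Field k] {A : Type u} [Ring A] [Algebra k A] [Algebra.IsCentral k A] [IsSimpleRing A]
  [FiniteDimensional k A]

/-- Powers with congruent exponents have the same class. -/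
theorem beq_of_modEq {p a b : ℕ} (hp : BEq k (CSAGal.tpow k A p) k) (h : a ≡ b [MOD p]) :
    BEq k (CSAGal.tpow k A a) (CSAGal.tpow k A b) := by
  have key : ∀ m, BEq k (CSAGal.tpow k A m) (CSAGal.tpow k A (m % p)) := fun m => by
    have h2 := Groth.L11.Idx.beq_tpow_add (k := k) (A := A) (p * (m / p)) (m % p)
    rw [Nat.div_add_mod] at h2
    exact h2.trans (((Groth.L11.Idx.beq_one_of_dvd hp (dvd_mul_right p _)).tensor_right _).trans
      (BEq.of_algEquiv (Algebra.TensorProduct.lid k _)))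
  have ha := key a
  rw [h] at ha
  exact ha.trans (key b).symm

/-- The index of a power of the class divides. -/
theorem index_dvd_of_modEq_mul {p a b u : ℕ} {x y : ℕ} (hp : BEq k (CSAGal.tpow k A p) k) (h : b ≡ a * u [MOD p])
    (hx : CSAGal.IsIndex k (CSAGal.tpow k A a) x) (hy : CSAGal.IsIndex k (CSAGal.tpow k A b) y) : y ∣ x := by
  obtain ⟨_, _, _⟩ := Groth.L11.TPow.csa k A a
  obtain ⟨_, _, _⟩ := Groth.L11.TPow.csa k A b
  obtain ⟨F, _, _, _, -, hF, hs⟩ := Groth.L11.Idx.exists_splitting_field hx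
  exact hF ▸ Groth.L11.Idx.dvd_of_splits hy F (Groth.L11.Br.splits_of_beq
    ((beq_of_modEq hp h).trans (Groth.L11.Idx.beq_tpow_mul a u)) F (Groth.L11.Idx.splits_tpow_of_splits F hs u))

/-- The index depends on the exponent only up to sign and modulo the period. -/
theorem index_eq_of_dvd {p : ℕ} (hp : CSAGal.IsPeriod k A p) {i j : ℤ} (h : (p : ℤ) ∣ i - j ∨ (p : ℤ) ∣ i + j)
    {x y : ℕ} (hx : CSAGal.IsIndex k (CSAGal.tpow k A i.natAbs) x)
    (hy : CSAGal.IsIndex k (CSAGal.tpow k A j.natAbs) y) : x = y := by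
  have hb := (Groth.L11.Idx.splits_tpow_iff_beq p).mp hp.2.1
  have h' : (p : ℤ) ∣ (i.natAbs : ℤ) - j.natAbs ∨ (p : ℤ) ∣ (i.natAbs : ℤ) + j.natAbs := by
    rcases Int.natAbs_eq i with hi | hi <;> rcases Int.natAbs_eq j with hj | hj
    · rw [← hi, ← hj]; exact h
    · rw [← hi, show ((j.natAbs : ℤ)) = -j by omega, sub_neg_eq_add, ← sub_eq_add_neg]; exact h.symm
    · rw [← hj, show ((i.natAbs : ℤ)) = -i by omega, show -i - j = -(i + j) by ring,
        show -i + j = -(i - j) by ring, dvd_neg, dvd_neg]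
      exact h.symm
    · rw [show ((i.natAbs : ℤ)) = -i by omega, show ((j.natAbs : ℤ)) = -j by omega,
        show -i - -j = -(i - j) by ring, show -i + -j = -(i + j) by ring, dvd_neg, dvd_neg]
      exact h
  rcases h' with h1 | h1
  · have hm : i.natAbs ≡ j.natAbs [MOD p] := (Nat.modEq_iff_dvd.mpr h1).symm
    exact Nat.dvd_antisymm (index_dvd_of_modEq_mul (u := 1) hb (by rw [mul_one]; exact hm) hy hx)
      (index_dvd_of_modEq_mul (u := 1) hb (by rw [mul_one]; exact hm.symm) hx hy)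
  · have hu : ((p - 1 : ℕ) : ℤ) = (p : ℤ) - 1 := by have := hp.1; omega
    refine Nat.dvd_antisymm (index_dvd_of_modEq_mul (u := p - 1) hb ?_ hy hx)
      (index_dvd_of_modEq_mul (u := p - 1) hb ?_ hx hy)
    · refine Nat.modEq_iff_dvd.mpr ?_
      rw [Nat.cast_mul]
      rw [hu, show (j.natAbs : ℤ) * ((p : ℤ) - 1) - (i.natAbs : ℤ) =
        (p : ℤ) * j.natAbs - ((i.natAbs : ℤ) + j.natAbs) by ring]
      exact dvd_sub (dvd_mul_right _ _) h1
    · refine Nat.modEq_iff_dvd.mpr ?_
      rw [Nat.cast_mul]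
      rw [hu, show (i.natAbs : ℤ) * ((p : ℤ) - 1) - (j.natAbs : ℤ) =
        (p : ℤ) * i.natAbs - ((i.natAbs : ℤ) + j.natAbs) by ring]
      exact dvd_sub (dvd_mul_right _ _) h1

/-- A split power has index one. -/
theorem index_eq_one_of_splits {m x : ℕ} (h : Curves.Splits k (CSAGal.tpow k A m) k)
    (hx : CSAGal.IsIndex k (CSAGal.tpow k A m) x) : x = 1 := by
  obtain ⟨_, _, _⟩ := Groth.L11.TPow.csa k A m
  exact Nat.eq_one_of_dvd_one ((Module.finrank_self k) ▸ Groth.L11.Idx.dvd_of_splits hx k h)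

end Groth.L24.SB
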