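import Groth.Agent.L11.CSA.PeriodIndex
import Groth.Agent.L21.CSA.SplitBasic
import Mathlib.GroupTheory.Sylow
import Mathlib.FieldTheory.Galois.Basic
import Mathlib.FieldTheory.Normal.Closure
import Mathlib.FieldTheory.SeparableClosure

/-!
# The index of tensor powers
-/

set_option autoImplicit false
set_option linter.style.haveILetI false

universe u

open scoped TensorProduct
open Groth.L11.Br (BEq)

noncomputable section

namespace Groth.L24.SB

variable {k : Type u} [Field k] {A : Type u} [Ring A] [Algebra k A] [Algebra.IsCentral k A] [IsSimpleRing A]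
  [FiniteDimensional k A]

/-- The index of a tensor power divides the index. -/
theorem index_tpow_dvd_self {d e : ℕ} (j : ℕ) (hd : CSAGal.IsIndex k A d)
    (he : CSAGal.IsIndex k (CSAGal.tpow k A j) e) : e ∣ d := by
  obtain ⟨_, _, _⟩ := Groth.L11.TPow.csa k A j
  obtain ⟨F, _, _, _, -, hF, hs⟩ := Groth.L11.Idx.exists_splitting_field hd
  exact hF ▸ Groth.L11.Idx.dvd_of_splits he F (Groth.L11.Idx.splits_tpow_of_splits F hs j)

/-- A prime power of the class loses this prime in the index. -/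
theorem index_tpow_prime {d e q : ℕ} (hd : CSAGal.IsIndex k A d) (hq : q.Prime) (hqd : q ∣ d)
    (he : CSAGal.IsIndex k (CSAGal.tpow k A q) e) : e * q ∣ d := by
  classical
  haveI : Fact q.Prime := ⟨hq⟩
  obtain ⟨_, _, _⟩ := Groth.L11.TPow.csa k A q
  obtain ⟨F, _, _, hfin, hsep, hF, hs⟩ := Groth.L11.Idx.exists_splitting_field hd
  let Ω := SeparableClosure k
  let j₀ : F →ₐ[k] Ω := IsSepClosed.lift
  let N : IntermediateField k Ω := IntermediateField.normalClosure k F Ω
  haveI : IsGalois k N := IsGalois.normalClosure k F Ω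
  haveI : FiniteDimensional k N := normalClosure.is_finiteDimensional k F Ω
  let j : F →ₐ[k] N := j₀.codRestrict N.toSubalgebra fun x => j₀.fieldRange_le_normalClosure ⟨x, rfl⟩
  let F' : IntermediateField k N := j.fieldRange
  let H : Subgroup (N ≃ₐ[k] N) := F'.fixingSubgroup
  have hH : IntermediateField.fixedField H = F' := IsGalois.fixedField_fixingSubgroup F'
  have hcardG : Nat.card (N ≃ₐ[k] N) = d * Nat.card H := by
    rw [IsGalois.card_aut_eq_finrank, IsGalois.card_fixingSubgroup_eq_finrank, ← hF,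
      show Module.finrank k F = Module.finrank k F' from
        (AlgEquiv.ofInjectiveField j).toLinearEquiv.finrank_eq, Module.finrank_mul_finrank]
  let S : Sylow q H := default
  obtain ⟨s, hs'⟩ : ∃ s, Nat.card (S : Subgroup H) = q ^ s := IsPGroup.iff_card.mp S.2
  have hc : ¬ q ∣ (S : Subgroup H).index := S.not_dvd_index
  have hcH : Nat.card H = q ^ s * (S : Subgroup H).index := by rw [← hs']; exact ((S : Subgroup H).card_mul_index).symm
  obtain ⟨d₀, rfl⟩ := hqd
  let S' : Subgroup (N ≃ₐ[k] N) := (S : Subgroup H).map H.subtype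
  have hcS' : Nat.card S' = q ^ s := by
    rw [← hs']; exact Subgroup.card_map_of_injective H.subtype_injective
  have hdvd : q ^ (s + 1) ∣ Nat.card (N ≃ₐ[k] N) := ⟨d₀ * (S : Subgroup H).index, by rw [hcardG, hcH, pow_succ]; ring⟩
  obtain ⟨Q, hcQ, hSQ⟩ := Sylow.exists_subgroup_card_pow_succ hdvd hcS'
  let M : IntermediateField k N := IntermediateField.fixedField Q
  let M' : IntermediateField k N := IntermediateField.fixedField S'
  have hMM' : M ≤ M' := fun x hx g => hx ⟨g.1, hSQ g.2⟩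
  have hFM' : F' ≤ M' := hH ▸ fun x hx g => hx ⟨g.1, Subgroup.map_subtype_le _ g.2⟩
  letI : Algebra M M' := (IntermediateField.inclusion hMM').toRingHom.toAlgebra
  haveI : IsScalarTower k M M' := IsScalarTower.of_algebraMap_eq fun _ => rfl
  haveI : FiniteDimensional M M' := Module.Finite.of_restrictScalars_finite k M M'
  have h1 : Module.finrank M' N = q ^ s := by rw [IntermediateField.finrank_fixedField_eq_card, hcS']
  have h2 : Module.finrank M N = q ^ (s + 1) := by rw [IntermediateField.finrank_fixedField_eq_card, hcQ]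
  have h3 : Module.finrank k M * q ^ (s + 1) = Module.finrank k M' * q ^ s := by
    rw [← h1, ← h2, Module.finrank_mul_finrank, Module.finrank_mul_finrank]
  have hMM'q : Module.finrank M M' = q := by
    rw [← Module.finrank_mul_finrank k M M', pow_succ] at h3
    have h5 : Module.finrank k M * q ^ s * q = Module.finrank k M * q ^ s * Module.finrank M M' := by
      rw [mul_assoc, h3]; ring
    exact (Nat.eq_of_mul_eq_mul_left (Nat.mul_pos Module.finrank_pos (pow_pos hq.pos s)) h5).symm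
  have hM'split : Curves.Splits k A M' := by
    let σ : F →ₐ[k] M' := ((IntermediateField.inclusion hFM').comp (AlgEquiv.ofInjectiveField j).toAlgHom)
    letI : Algebra F M' := σ.toRingHom.toAlgebra
    haveI : IsScalarTower k F M' := IsScalarTower.of_algebraMap_eq' σ.comp_algebraMap.symm
    exact Groth.L21.CSA.splits_trans k A F M' hs
  -- over the intermediate field the index divides the prime
  haveI := Groth.L11.CSA.isCentral_baseChange k A M
  haveI := Groth.L11.CSA.isSimpleRing_baseChange k A M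
  obtain ⟨d', hd'⟩ := Groth.L11.Idx.exists_isIndex (k := M) (A := M ⊗[k] A)
  have hd'q : d' ∣ q := by
    obtain ⟨m, hm, ⟨f⟩⟩ := hM'split
    exact hMM'q ▸ Groth.L11.Idx.dvd_of_splits hd' M' ⟨m, hm, ⟨(Groth.L21.CSA.cancelEquiv k A M M').symm.trans f⟩⟩
  obtain ⟨p', hp'⟩ := Groth.L11.Idx.exists_period (k := M) (A := M ⊗[k] A)
  have hsq : Curves.Splits M (CSAGal.tpow M (M ⊗[k] A) q) M :=
    (Groth.L11.Idx.splits_tpow_iff_dvd hp' q).mpr ((Groth.L11.Idx.period_dvd_index hd' hp').trans hd'q)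
  haveI := Groth.L11.CSA.isCentral_baseChange k (CSAGal.tpow k A q) M
  haveI := Groth.L11.CSA.isSimpleRing_baseChange k (CSAGal.tpow k A q) M
  obtain ⟨r, hr, ⟨f⟩⟩ := Groth.L11.Idx.splits_self_iff.mpr
    ((Groth.L11.Idx.beq_baseChange_tpow M q).trans ((Groth.L11.Idx.splits_tpow_iff_beq q).mp hsq))
  have heM : e ∣ Module.finrank k M := Groth.L11.Idx.dvd_of_splits he M
    ⟨r, hr, ⟨(Algebra.TensorProduct.lid M (M ⊗[k] CSAGal.tpow k A q)).symm.trans f⟩⟩
  have hed : e ∣ q * d₀ := index_tpow_dvd_self q hd he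
  have hM : Module.finrank k M = d₀ * (S : Subgroup H).index := by
    have h4 : Module.finrank k M * q ^ (s + 1) = (d₀ * (S : Subgroup H).index) * q ^ (s + 1) := by
      rw [← h2, Module.finrank_mul_finrank, h2, ← IsGalois.card_aut_eq_finrank, hcardG, hcH, pow_succ]
      ring
    exact Nat.eq_of_mul_eq_mul_right (pow_pos hq.pos _) h4
  rw [hM] at heM
  have hgcd : e ∣ Nat.gcd (d₀ * q) (d₀ * (S : Subgroup H).index) := Nat.dvd_gcd (mul_comm q d₀ ▸ hed) heM
  rw [Nat.gcd_mul_left, (hq.coprime_iff_not_dvd.mpr hc).gcd_eq_one, mul_one] at hgcd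
  rw [mul_comm q d₀]
  exact Nat.mul_dvd_mul_right hgcd q

theorem div_gcd_dvd {d d' j : ℕ} (hd : 0 < d) (h : d' ∣ d) : d' / Nat.gcd d' j ∣ d / Nat.gcd d j := by
  rcases Nat.eq_zero_or_pos j with rfl | hj
  · rcases Nat.eq_zero_or_pos d' with rfl | hd'
    · exact absurd (zero_dvd_iff.mp h) hd.ne'
    · simp [Nat.div_self hd, Nat.div_self hd']
  · refine (Nat.mul_dvd_mul_iff_right hj).mp ?_
    have key : ∀ x : ℕ, x / Nat.gcd x j * j = Nat.lcm x j := fun x => by
      rw [Nat.lcm, mul_comm x j, Nat.mul_div_assoc _ (Nat.gcd_dvd_left x j), mul_comm]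
    rw [key, key]
    exact Nat.lcm_dvd (h.trans (Nat.dvd_lcm_left _ _)) (Nat.dvd_lcm_right _ _)

/-- The index of the `j`-th power divides the index divided by its gcd with `j`. -/
theorem index_tpow_gcd : ∀ (j : ℕ) {B : Type u} [Ring B] [Algebra k B] [Algebra.IsCentral k B] [IsSimpleRing B]
    [FiniteDimensional k B] {d e : ℕ}, CSAGal.IsIndex k B d → CSAGal.IsIndex k (CSAGal.tpow k B j) e →
    e ∣ d / Nat.gcd d j := by
  intro j
  induction j using Nat.strong_induction_on with
  | _ j ih =>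
    intro B _ _ _ _ _ d e hd he
    rcases Nat.eq_zero_or_pos j with rfl | hj
    · rw [Nat.gcd_zero_right, Nat.div_self hd.1]
      obtain ⟨_, _, _⟩ := Groth.L11.TPow.csa k B 0
      exact (Module.finrank_self k) ▸ Groth.L11.Idx.dvd_of_splits he k (Groth.L11.Idx.splits_self_iff.mpr
        (Groth.L11.Br.BEq.of_algEquiv (Groth.L11.TPow.zeroEquiv k B)))
    by_cases hg : Nat.gcd d j = 1
    · rw [hg, Nat.div_one]
      exact index_tpow_dvd_self j hd he
    obtain ⟨q, hq, hqg⟩ := Nat.exists_prime_and_dvd hg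
    have hqd : q ∣ d := hqg.trans (Nat.gcd_dvd_left _ _)
    obtain ⟨j', rfl⟩ := hqg.trans (Nat.gcd_dvd_right _ _)
    obtain ⟨_, _, _⟩ := Groth.L11.TPow.csa k B q
    obtain ⟨_, _, _⟩ := Groth.L11.TPow.csa k B (q * j')
    obtain ⟨_, _, _⟩ := Groth.L11.TPow.csa k (CSAGal.tpow k B q) j'
    obtain ⟨d₁, hd₁⟩ := Groth.L11.Idx.exists_isIndex (k := k) (A := CSAGal.tpow k B q)
    have he' := Groth.L11.Idx.isIndex_of_beq he (Groth.L11.Idx.beq_tpow_mul q j')
    have hj' : j' < q * j' := by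
      have h0 : 0 < j' := Nat.pos_of_mul_pos_left hj
      exact lt_mul_left h0 hq.one_lt
    refine (ih j' hj' hd₁ he').trans ?_
    obtain ⟨d₀, rfl⟩ := hqd
    have h1 : d₁ ∣ d₀ := by
      have h := index_tpow_prime hd hq (dvd_mul_right q d₀) hd₁
      exact (Nat.mul_dvd_mul_iff_right hq.pos).mp (mul_comm q d₀ ▸ h)
    have h2 : q * d₀ / Nat.gcd (q * d₀) (q * j') = d₀ / Nat.gcd d₀ j' := by
      rw [Nat.gcd_mul_left, Nat.mul_div_mul_left _ _ hq.pos]
    rw [h2]
    exact div_gcd_dvd (Nat.pos_of_mul_pos_left hd.1) h1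

/-- With equal period and index `p`, the index of the `j`-th power is `p / gcd p j`. -/
theorem index_tpow_eq {p e : ℕ} (j : ℕ) (hi : CSAGal.IsIndex k A p) (hp : CSAGal.IsPeriod k A p)
    (he : CSAGal.IsIndex k (CSAGal.tpow k A j) e) : e = p / Nat.gcd p j := by
  obtain ⟨_, _, _⟩ := Groth.L11.TPow.csa k A j
  obtain ⟨_, _, _⟩ := Groth.L11.TPow.csa k A (j * e)
  obtain ⟨_, _, _⟩ := Groth.L11.TPow.csa k (CSAGal.tpow k A j) e
  refine Nat.dvd_antisymm (index_tpow_gcd j hi he) ?_
  have h1 := (Groth.L11.Idx.splits_tpow_iff_beq e).mp (Groth.L11.Idx.splits_tpow_index he)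
  have h2 : p ∣ j * e := (Groth.L11.Idx.splits_tpow_iff_dvd hp _).mp
    ((Groth.L11.Idx.splits_tpow_iff_beq _).mpr ((Groth.L11.Idx.beq_tpow_mul j e).trans h1))
  have hg : 0 < Nat.gcd p j := Nat.gcd_pos_of_pos_left _ hi.1
  obtain ⟨p₀, hp₀⟩ := Nat.gcd_dvd_left p j
  obtain ⟨j₀, hj₀⟩ := Nat.gcd_dvd_right p j
  have hcop : Nat.Coprime (p / Nat.gcd p j) (j / Nat.gcd p j) := Nat.coprime_div_gcd_div_gcd hg
  refine hcop.dvd_of_dvd_mul_left ?_
  rw [Nat.div_mul_right_comm (Nat.gcd_dvd_right p j) e]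
  exact Nat.div_dvd_div (Nat.gcd_dvd_left p j) h2

end Groth.L24.SB
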