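import Groth.Agent.L24.SB.PnLift
import Groth.Agent.L24.QCohDesc.Basic

/-!
# The Grothendieck group of a Severi–Brauer variety
-/

set_option autoImplicit false
set_option linter.style.haveILetI false
set_option backward.isDefEq.respectTransparency false
set_option backward.isDefEq.respectTransparency.types false

universe u

open CategoryTheory CategoryTheory.Limits AlgebraicGeometry
open scoped TensorProduct
open Groth.L00.Tensor (tensorRightF tensorLeftF tensorIso)

noncomputable section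

namespace Groth.L24.SB

open Groth.L22.Reg (O' tw')

/-- The class of the middle term. -/
theorem clSub_rel {X : Scheme.{u}} (T : ShortComplex X.Modules) (hT : T.ShortExact)
    (h1 : FlatMod.IsFinLocFree T.X₁) (h2 : FlatMod.IsFinLocFree T.X₂) (h3 : FlatMod.IsFinLocFree T.X₃) :
    KZero.clSub (fun M : X.Modules => FlatMod.IsFinLocFree M) T.X₂ =
      KZero.clSub (fun M : X.Modules => FlatMod.IsFinLocFree M) T.X₁ +
        KZero.clSub (fun M : X.Modules => FlatMod.IsFinLocFree M) T.X₃ := by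
  simp only [KZero.clSub, dif_pos h1, dif_pos h2, dif_pos h3]
  rw [← sub_eq_zero, ← sub_sub, ← QuotientAddGroup.mk_sub, ← QuotientAddGroup.mk_sub, QuotientAddGroup.eq_zero_iff]
  exact AddSubgroup.subset_closure ⟨T, h1, h2, h3, hT, rfl⟩

/-- A finite direct sum of the members of a class closed under sums. -/
theorem span_coprod {X : Scheme.{u}} (S : AddSubgroup (KZero.K0sub (fun M : X.Modules => FlatMod.IsFinLocFree M))) :
    ∀ (r : ℕ) (M : Fin r → X.Modules), (∀ i, FlatMod.IsFinLocFree (M i)) →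
      (∀ i, KZero.clSub (fun M : X.Modules => FlatMod.IsFinLocFree M) (M i) ∈ S) →
      KZero.clSub (fun M : X.Modules => FlatMod.IsFinLocFree M) (∐ M) ∈ S := by
  intro r
  induction r with
  | zero =>
    intro M hM _
    have hz : IsZero (∐ M) := (IsZero.iff_id_eq_zero _).2 (Sigma.hom_ext _ _ fun i => i.elim0)
    have hP : FlatMod.IsFinLocFree (∐ M) := Groth.L29.DC.isFinLocFree_coprod_fin 0 M hM
    let T := ShortComplex.mk (𝟙 (∐ M)) (0 : (∐ M) ⟶ ∐ M) (by simp)
    have hT : T.ShortExact :=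
      { exact := ShortComplex.exact_of_isZero_X₂ _ hz
        mono_f := inferInstanceAs (Mono (𝟙 _))
        epi_g := ⟨fun _ _ _ => hz.eq_of_src _ _⟩ }
    have h := clSub_rel T hT hP hP hP
    have h0 : KZero.clSub (fun M : X.Modules => FlatMod.IsFinLocFree M) (∐ M) = 0 := add_eq_left.1 h.symm
    rw [h0]
    exact S.zero_mem
  | succ r ih =>
    intro M hM hS
    obtain ⟨c⟩ := Groth.L22.PDual.nonempty_biprod_sigma (A := M 0) (M := fun i : Fin r => M i.succ)
    let c' : M 0 ⊞ (∐ fun i : Fin r => M i.succ) ≅ ∐ M :=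
      c ≪≫ Sigma.mapIso fun j => eqToIso (by revert j; exact Fin.cases rfl fun _ => rfl)
    let T := ShortComplex.mk ((biprod.inl : M 0 ⟶ M 0 ⊞ (∐ fun i : Fin r => M i.succ)) ≫ c'.hom)
      (c'.inv ≫ (biprod.snd : M 0 ⊞ (∐ fun i : Fin r => M i.succ) ⟶ _)) (by simp)
    let T₀ := ShortComplex.mk (biprod.inl : M 0 ⟶ M 0 ⊞ (∐ fun i : Fin r => M i.succ)) biprod.snd biprod.inl_snd
    have hT : T.ShortExact := ShortComplex.shortExact_of_iso
      (ShortComplex.isoMk (S₁ := T₀) (S₂ := T) (Iso.refl _) c' (Iso.refl _) (by simp [T, T₀]) (by simp [T, T₀]))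
      (ShortComplex.Splitting.ofHasBinaryBiproduct (M 0) (∐ fun i : Fin r => M i.succ)).shortExact
    rw [clSub_rel T hT (hM 0) (Groth.L29.DC.isFinLocFree_coprod_fin _ M hM)
      (Groth.L29.DC.isFinLocFree_coprod_fin _ _ fun i => hM _)]
    exact S.add_mem (hS 0) (ih _ (fun i => hM _) fun i => hS _)

section Factor

variable {k : Type u} [Field k] {X : Scheme.{u}} [X.Over (Spec (CommRingCat.of k))]
  [IsProper (X ↘ Spec (CommRingCat.of k))]
  {K : Type u} [Field K] [Algebra k K] {d : ℕ}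
  (g : CohB1.ProjSpace d K ⟶ X)
  (sq : IsPullback g (CohB1.ProjSpace d K ↘ Spec (CommRingCat.of K)) (X ↘ Spec (CommRingCat.of k))
    (Spec.map (CommRingCat.ofHom (algebraMap k K))))

include sq in
/-- A basis of homomorphisms lifts every map from the type of the source. -/
theorem exists_cover {W E : X.Modules} (hW : FlatMod.IsFinLocFree W) (hE : FlatMod.IsFinLocFree E) {r : ℕ}
    (hr : 0 < r) {t : ℤ} (a : (Scheme.Modules.pullback g).obj W ≅ ∐ fun _ : Fin r => O' d K (-t)) :
    ∃ (c : ℕ) (p : (∐ fun _ : Fin c => W) ⟶ E), Lifts ((Scheme.Modules.pullback g).map p) t := by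
  haveI : IsLocallyNoetherian X := LocallyOfFiniteType.isLocallyNoetherian (X ↘ Spec (CommRingCat.of k))
  have hWc := Groth.L16.NegPow.isCoh_of_isFinLocFree hW
  have hEc := Groth.L16.NegPow.isCoh_of_isFinLocFree hE
  haveI : Module.Finite k (W ⟶ E) := Groth.L14.Quot.finite_hom hWc hEc
  let b := Module.finBasis k (W ⟶ E)
  let p : (∐ fun _ : Fin (Module.finrank k (W ⟶ E)) => W) ⟶ E := Sigma.desc fun i => b i
  refine ⟨_, p, fun s => ?_⟩
  have key : ∀ ψ : (Scheme.Modules.pullback g).obj W ⟶ (Scheme.Modules.pullback g).obj E,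
      ∃ ψ', ψ' ≫ (Scheme.Modules.pullback g).map p = ψ := by
    intro ψ
    obtain ⟨z, rfl⟩ := (bijective_homBC g sq hWc hEc).2 ψ
    induction z using TensorProduct.induction_on with
    | zero => exact ⟨0, by rw [map_zero, zero_comp]⟩
    | add x y hx hy =>
      obtain ⟨x', hx'⟩ := hx
      obtain ⟨y', hy'⟩ := hy
      exact ⟨x' + y', by rw [Preadditive.add_comp, hx', hy', map_add]⟩
    | tmul c β =>
      refine ⟨c • (Scheme.Modules.pullback g).map
        (∑ i, b.repr β i • Sigma.ι (fun _ : Fin (Module.finrank k (W ⟶ E)) => W) i), ?_⟩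
      rw [homBC_tmul g sq, Linear.smul_comp, ← Functor.map_comp, Preadditive.sum_comp]
      congr 2
      conv_rhs => rw [← b.sum_repr β]
      exact Finset.sum_congr rfl fun i _ => by rw [Linear.smul_comp, Sigma.ι_desc]
  obtain ⟨ψ', hψ'⟩ := key (a.hom ≫ Sigma.desc fun _ => s)
  refine ⟨Sigma.ι (fun _ : Fin r => O' d K (-t)) ⟨0, hr⟩ ≫ a.inv ≫ ψ', ?_⟩
  rw [Category.assoc, Category.assoc, hψ', Iso.inv_hom_id_assoc, Sigma.ι_desc]

include sq in
/-- A cover by sums of modules of non-positive type, lifting all sections of non-negative twists. -/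
theorem exists_resolution_step [Flat g] [Surjective g] (hd : 1 ≤ d)
    (Wt : ℕ → X.Modules) (r : ℕ → ℕ) (hWt : ∀ t, FlatMod.IsFinLocFree (Wt t)) (hr : ∀ t, 0 < r t)
    (hta : ∀ t : ℕ, Nonempty ((Scheme.Modules.pullback g).obj (Wt t) ≅ ∐ fun _ : Fin (r t) => O' d K (-(t : ℤ))))
    (S : AddSubgroup (KZero.K0sub (fun M : X.Modules => FlatMod.IsFinLocFree M)))
    (hS : ∀ t, KZero.clSub (fun M : X.Modules => FlatMod.IsFinLocFree M) (Wt t) ∈ S)
    {E : X.Modules} (hE : FlatMod.IsFinLocFree E) :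
    ∃ T : ShortComplex X.Modules, T.X₃ = E ∧ T.ShortExact ∧ FlatMod.IsFinLocFree T.X₁ ∧ FlatMod.IsFinLocFree T.X₂ ∧
      FlatMod.IsFinLocFree T.X₃ ∧
      KZero.clSub (fun M : X.Modules => FlatMod.IsFinLocFree M) T.X₂ ∈ S ∧
      Good ((Scheme.Modules.pullback g).obj T.X₂) ∧ Mid 0 ((Scheme.Modules.pullback g).obj T.X₂) ∧
      ∀ t : ℤ, 0 ≤ t → Lifts ((Scheme.Modules.pullback g).map T.g) t := by
  classical
  haveI := Groth.L22.PDual.proper d K
  haveI := Groth.L21.RR.isNoetherian_of_proper (X := CohB1.ProjSpace d K) K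
  let G := Scheme.Modules.pullback g
  haveI := Groth.L17.CxTools.preservesFiniteLimits_pullback g
  haveI := (Scheme.Modules.pullbackPushforwardAdjunction g).leftAdjoint_preservesColimits
  haveI : PreservesColimitsOfSize.{0, 0} G := preservesColimitsOfSize_shrink.{0, u, 0, u} _
  have hF : FlatMod.IsFinLocFree (G.obj E) := Groth.L29.LocFree.pullback g hE
  choose c p hp using fun t : ℕ => exists_cover g sq (hWt t) hE (hr t) (hta t).some
  obtain ⟨M₀, hM₀⟩ := Groth.L22.Reg.exists_gg_twist (Groth.L16.NegPow.isCoh_of_isFinLocFree hF) 0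
  have hgg := hM₀ M₀ le_rfl
  rw [zero_add] at hgg
  -- beyond `M₀` lifting is automatic up to a finite range
  haveI : Epi (G.map (p M₀)) := epi_of_lifts _ hgg (hp M₀)
  let A := ∐ fun _ : Fin (c M₀) => Wt M₀
  have hA : FlatMod.IsFinLocFree A := Groth.L29.DC.isFinLocFree_coprod_fin _ _ fun _ => hWt _
  have hKer : FlatMod.IsFinLocFree (kernel (G.map (p M₀))) :=
    Groth.L29.DC.isFinLocFree_kernel_of_epi _ (Groth.L29.LocFree.pullback g hA) hF
  obtain ⟨m, hm⟩ := Groth.L22.Reg.exists_regular (Groth.L16.NegPow.isCoh_of_isFinLocFree hKer)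
  have hlarge : ∀ t : ℤ, (m : ℤ) ≤ t → Lifts (G.map (p M₀)) t := fun t ht => by
    refine lifts_of_surjective _ fun y => ?_
    haveI := Groth.L22.PDual.isEquivalence_tw (n := d) (k := K) t
    haveI : (tensorRightF (O' d K t)).Additive := Functor.additive_of_preserves_binary_products _
    have hT : ((ShortComplex.mk (kernel.ι (G.map (p M₀))) (G.map (p M₀)) (kernel.condition _)).map
        (tensorRightF (O' d K t))).ShortExact :=
      (({ exact := ShortComplex.exact_kernel _ } : (ShortComplex.mk (kernel.ι (G.map (p M₀))) (G.map (p M₀))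
        (kernel.condition _)).ShortExact)).map_of_exact _
    exact (Groth.L16.CohLinear.exact_hmap_delta hT 0 y).1
      (@Subsingleton.elim _ (hm.subsingleton (q := 1) le_rfl (r := t) (by omega)) _ _)
  let N := M₀ + m + 1
  let Q : Fin N → X.Modules := fun i => ∐ fun _ : Fin (c i) => Wt i
  let π : (∐ Q) ⟶ E := Sigma.desc fun i : Fin N => p i
  have hπ : ∀ (i : Fin N) (t : ℤ), Lifts (G.map (p i)) t → Lifts (G.map π) t := fun i t h s => by
    obtain ⟨s', hs'⟩ := h s
    refine ⟨s' ≫ G.map (Sigma.ι Q i), ?_⟩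
    rw [Category.assoc, ← Functor.map_comp, Sigma.ι_desc, hs']
  have hall : ∀ t : ℤ, 0 ≤ t → Lifts (G.map π) t := fun t ht => by
    rcases lt_or_ge t (m : ℤ) with hlt | hge
    · lift t to ℕ using ht
      exact hπ ⟨t, by omega⟩ _ (hp t)
    · exact hπ ⟨M₀, by omega⟩ _ (hlarge t hge)
  haveI : Epi (G.map π) := epi_of_lifts _ hgg (hall M₀ (by omega))
  haveI : Epi π := Preadditive.epi_of_isZero_cokernel π
    (Groth.L24.QCohDesc.isZero_of_pullback g ((isZero_cokernel_of_epi (G.map π)).of_iso (PreservesCokernel.iso G π)))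
  have hQ : ∀ i, FlatMod.IsFinLocFree (Q i) := fun i => Groth.L29.DC.isFinLocFree_coprod_fin _ _ fun _ => hWt _
  have hQQ : FlatMod.IsFinLocFree (∐ Q) := Groth.L29.DC.isFinLocFree_coprod_fin _ Q hQ
  let e : G.obj (∐ Q) ≅ ∐ fun x : Fin (∑ i : Fin N, c i * r i) =>
      O' d K (-(((finSigmaFinEquiv.symm x).1 : ℕ) : ℤ)) :=
    PreservesCoproduct.iso G Q ≪≫ Sigma.mapIso (fun i => PreservesCoproduct.iso G (fun _ : Fin (c i) => Wt i) ≪≫
      Sigma.mapIso (fun _ => (hta i).some) ≪≫
      sigmaSigmaIso (fun _ : Fin (c i) => Fin (r i)) (fun _ _ => O' d K (-((i : ℕ) : ℤ))) ≪≫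
      Sigma.whiskerEquiv (g := fun _ : Fin (c i * r i) => O' d K (-((i : ℕ) : ℤ)))
        ((Equiv.sigmaEquivProd _ _).trans finProdFinEquiv) (fun _ => Iso.refl _)) ≪≫
      sigmaSigmaIso (fun i : Fin N => Fin (c i * r i)) (fun i _ => O' d K (-((i : ℕ) : ℤ))) ≪≫
      Sigma.whiskerEquiv (g := fun x : Fin (∑ i : Fin N, c i * r i) =>
        O' d K (-(((finSigmaFinEquiv.symm x).1 : ℕ) : ℤ))) finSigmaFinEquiv
        (fun x => eqToIso (by rw [Equiv.symm_apply_apply]))
  refine ⟨ShortComplex.mk (kernel.ι π) π (kernel.condition π), rfl, { exact := ShortComplex.exact_kernel π },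
    Groth.L29.DC.isFinLocFree_kernel_of_epi π hQQ hE, hQQ, hE,
    span_coprod S N Q hQ fun i => span_coprod S _ _ (fun _ => hWt _) fun _ => hS _,
    good_sigma hd _ (fun _ => by omega) e, fun t q hq hqd => ?_, hall⟩
  exact Groth.L22.PDual.subsingleton_sigma_mid _ e t fun j => ⟨fun h => by omega, fun h => by omega⟩

end Factor

end Groth.L24.SB
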