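import Groth.Agent.L18.ProjSpaceUP
import Groth.Agent.L21.RR.VeryAmpleField
import Groth.Agent.L16.ProjSpace.Sections
import Groth.Agent.L16.SectCmp.Basic

/-!
# Linear changes of coordinates of maps to projective space
-/

set_option autoImplicit false
set_option linter.style.haveILetI false
set_option backward.isDefEq.respectTransparency false
set_option backward.isDefEq.respectTransparency.types false

universe u

open CategoryTheory CategoryTheory.Limits AlgebraicGeometry TopologicalSpace MvPolynomial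
open Groth.L18.PUP (P pr O1 T rT)
open Groth.L18.Frame (pull)

noncomputable section

namespace Groth.L24.SB

variable {R : Type u} [CommRing R] {n : ℕ}

/-- The combination of global sections with constant coefficients. -/
def comb {Z : Scheme.{u}} (q : Z ⟶ Spec (CommRingCat.of R)) {L : Z.Modules} {m : ℕ} (c : Fin m → R)
    (s : Fin m → Γ(L, ⊤)) : Γ(L, ⊤) :=
  ∑ i, ProjUP.toGlobal q (c i) • s i

theorem polyToSection_add (p q : CohB1.polyGrading n R 1) :
    Groth.L16.ProjSpace.polyToSection n R 1 (p + q) =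
      Groth.L16.ProjSpace.polyToSection n R 1 p + Groth.L16.ProjSpace.polyToSection n R 1 q :=
  Subtype.ext (funext fun x => Subtype.ext (Localization.add_mk_self _ _ _).symm)

/-- Every linear form is a combination of the coordinates. -/
theorem exists_comb_T (s : Γ(O1 n R, ⊤)) : ∃ c : Fin (n + 1) → R, s = comb (pr n R) c T := by
  obtain ⟨p, rfl⟩ := Groth.L16.ProjSpace.polyToSection_surjective (n := n) (R := R) 1 s
  obtain ⟨p, hp⟩ := p
  have hp' : p ∈ Submodule.span R (Set.range (X : Fin (n + 1) → MvPolynomial (Fin (n + 1)) R)) := by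
    rw [← MvPolynomial.homogeneousSubmodule_one_eq_span_X]
    exact hp
  obtain ⟨c, hc⟩ := Submodule.mem_span_range_iff_exists_fun R |>.1 hp'
  refine ⟨c, Eq.trans ?_ (?_ : (∑ i, Groth.L16.ProjSpace.polyToSection n R 1
    ⟨c i • X i, Submodule.smul_mem _ _ (MvPolynomial.isHomogeneous_X R i)⟩) = _)⟩
  · refine Eq.trans ?_ (?_ : Groth.L16.ProjSpace.polyToSection n R 1
      (∑ i, ⟨c i • X i, Submodule.smul_mem _ _ (MvPolynomial.isHomogeneous_X R i)⟩) = _)
    · congr 1
      exact Subtype.ext (by rw [Submodule.coe_sum]; exact hc.symm)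
    · exact map_sum (AddMonoidHom.mk' (Groth.L16.ProjSpace.polyToSection n R 1)
        (polyToSection_add)) _ _
  · refine Finset.sum_congr rfl fun i _ => Subtype.ext (funext fun x => Subtype.ext ?_)
    refine Eq.trans ?_ (Twist.coe_smul_val _ _ _ _).symm
    erw [Groth.L16.ProjSpace.toGlobal_apply_val, Localization.mk_mul]
    refine (Groth.L16.ProjSpace.polyToSection_apply 1 _ x).trans ?_
    rw [Localization.mk_eq_mk_iff, Localization.r_iff_exists]
    exact ⟨1, by simp [MvPolynomial.smul_eq_C_mul]⟩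

/-- The coordinates are independent. -/
theorem comb_T_injective {c : Fin (n + 1) → R} (h : comb (pr n R) c T = 0) : c = 0 := by
  have h1 : Groth.L16.ProjSpace.polyToSection n R 1
      (∑ i, ⟨c i • X i, Submodule.smul_mem _ _ (MvPolynomial.isHomogeneous_X R i)⟩) =
      Groth.L16.ProjSpace.polyToSection n R 1 0 := by
    let φ := AddMonoidHom.mk' (Groth.L16.ProjSpace.polyToSection n R 1)
      polyToSection_add
    show φ _ = φ 0
    rw [map_sum, map_zero]
    refine Eq.trans ?_ h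
    refine Finset.sum_congr rfl fun i _ => Subtype.ext (funext fun x => Subtype.ext ?_)
    refine Eq.trans ?_ (Twist.coe_smul_val _ _ _ _).symm
    erw [Groth.L16.ProjSpace.toGlobal_apply_val, Localization.mk_mul]
    refine (Groth.L16.ProjSpace.polyToSection_apply 1 _ x).trans ?_
    rw [Localization.mk_eq_mk_iff, Localization.r_iff_exists]
    exact ⟨1, by simp [MvPolynomial.smul_eq_C_mul]⟩
  have h2 := congrArg Subtype.val (Groth.L16.ProjSpace.polyToSection_injective 1 h1)
  rw [Submodule.coe_sum] at h2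
  funext i
  have h3 := congrArg (MvPolynomial.coeff (Finsupp.single i 1)) h2
  classical
  simpa [MvPolynomial.coeff_sum, MvPolynomial.coeff_X, Finsupp.single_eq_single_iff] using h3

/-- Morphisms of modules preserve combinations. -/
theorem app_comb {Z : Scheme.{u}} (q : Z ⟶ Spec (CommRingCat.of R)) {L M : Z.Modules} (τ : L ⟶ M) {m : ℕ}
    (c : Fin m → R) (s : Fin m → Γ(L, ⊤)) : τ.app ⊤ (comb q c s) = comb q c fun i => τ.app ⊤ (s i) := by
  simp only [comb, map_sum, Scheme.Modules.Hom.app_smul]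

/-- Pullback of sections preserves combinations. -/
theorem pullSec_comb {Z Y : Scheme.{u}} (q : Z ⟶ Spec (CommRingCat.of R)) (f : Y ⟶ Z) {L : Z.Modules} {m : ℕ}
    (c : Fin m → R) (s : Fin m → Γ(L, ⊤)) :
    ProjUP.pullSec f L (comb q c s) = comb (f ≫ q) c fun i => ProjUP.pullSec f L (s i) := by
  refine (map_sum (((Scheme.Modules.pullbackPushforwardAdjunction f).unit.app L).app ⊤).hom _ _).trans ?_
  refine Finset.sum_congr rfl fun i _ => (Groth.L18.Frame.pull_smul f L _ _).trans ?_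
  rfl

/-- Germ generation only depends on the span with constant coefficients. -/
theorem generatedBy_of_comb {Z : Scheme.{u}} (q : Z ⟶ Spec (CommRingCat.of R)) {L : Z.Modules} {m m' : ℕ}
    {s : Fin m → Γ(L, ⊤)} {t : Fin m' → Γ(L, ⊤)} (hs : ProjUP.GeneratedBy L s)
    (h : ∀ j, ∃ c, s j = comb q c t) : ProjUP.GeneratedBy L t := by
  intro x
  rw [eq_top_iff, ← hs x, Submodule.span_le]
  rintro _ ⟨j, rfl⟩
  obtain ⟨c, hc⟩ := h j
  show (L.presheaf.germ ⊤ x trivial).hom (s j) ∈ _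
  rw [hc, comb, map_sum]
  refine Submodule.sum_mem _ fun i _ => ?_
  have e : (L.presheaf.germ ⊤ x trivial).hom (ProjUP.toGlobal q (c i) • t i) =
      Z.presheaf.germ ⊤ x trivial (ProjUP.toGlobal q (c i)) • (L.presheaf.germ ⊤ x trivial).hom (t i) :=
    PresheafOfModules.germ_smul L.val x ⊤ trivial _ _
  rw [e]
  exact Submodule.smul_mem _ _ (Submodule.subset_span ⟨i, rfl⟩)

/-- A map given by sections composed with a linear map is given by the transformed sections. -/
theorem comp_eq {Z : Scheme.{u}} (q : Z ⟶ Spec (CommRingCat.of R)) {L : Z.Modules}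
    {s t : Fin (n + 1) → Γ(L, ⊤)} (D : Fin (n + 1) → Fin (n + 1) → R) (hts : ∀ j, t j = comb q (D j) s)
    (r : Z ⟶ P n R) (hr : r ≫ pr n R = q) (τ : (Scheme.Modules.pullback r).obj (O1 n R) ≅ L)
    (hτ : ∀ i, τ.hom.app ⊤ (rT r i) = s i)
    (r' : Z ⟶ P n R) (hr' : r' ≫ pr n R = q) (τ' : (Scheme.Modules.pullback r').obj (O1 n R) ≅ L)
    (hτ' : ∀ i, τ'.hom.app ⊤ (rT r' i) = t i)
    (h : P n R ⟶ P n R) (hh : h ≫ pr n R = pr n R) (σ : (Scheme.Modules.pullback h).obj (O1 n R) ≅ O1 n R)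
    (hσ : ∀ j, σ.hom.app ⊤ (rT h j) = comb (pr n R) (D j) T) : r ≫ h = r' := by
  refine Groth.L18.PUP.hom_ext _ _ (by rw [Category.assoc, hh, hr, hr'])
    (((Scheme.Modules.pullbackComp r h).app _).symm ≪≫ (Scheme.Modules.pullback r).mapIso σ ≪≫ τ ≪≫ τ'.symm) fun j => ?_
  show τ'.inv.app ⊤ (τ.hom.app ⊤ (((Scheme.Modules.pullback r).map σ.hom).app ⊤
    (((Scheme.Modules.pullbackComp r h).inv.app (O1 n R)).app ⊤ (rT (r ≫ h) j)))) = _
  have h1 : ((Scheme.Modules.pullbackComp r h).inv.app (O1 n R)).app ⊤ (rT (r ≫ h) j) =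
      ProjUP.pullSec r _ (rT h j) := by
    rw [rT, ← Groth.L21.RR.pullSec_comp r h (O1 n R) (T j)]
    exact congr($(congrArg (fun k => Scheme.Modules.Hom.app k ⊤)
      ((Scheme.Modules.pullbackComp r h).hom_inv_id_app (O1 n R))) (ProjUP.pullSec r _ (rT h j)))
  have h2 : τ.hom.app ⊤ (ProjUP.pullSec r (O1 n R) (comb (pr n R) (D j) T)) = t j := by
    rw [pullSec_comb, hr, app_comb, hts]
    exact congrArg (comb q (D j)) (funext hτ)
  rw [h1, Groth.L21.RR.pullSec_map, hσ, h2, ← hτ' j]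
  exact congr($(congrArg (fun k => Scheme.Modules.Hom.app k ⊤) τ'.hom_inv_id) (rT r' j))

/-- An invertible change of coordinates is given by an automorphism. -/
theorem exists_linear (C D : Fin (n + 1) → Fin (n + 1) → R)
    (hCD : ∀ j, (T j : Γ(O1 n R, ⊤)) = comb (pr n R) (C j) fun i => comb (pr n R) (D i) T)
    (hDC : ∀ j, (T j : Γ(O1 n R, ⊤)) = comb (pr n R) (D j) fun i => comb (pr n R) (C i) T) :
    ∃ (h : P n R ⟶ P n R) (_ : h ≫ pr n R = pr n R) (σ : (Scheme.Modules.pullback h).obj (O1 n R) ≅ O1 n R),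
      IsIso h ∧ ∀ j, σ.hom.app ⊤ (rT h j) = comb (pr n R) (D j) T := by
  have hgen : ProjUP.GeneratedBy (O1 n R) (T (n := n) (R := R)) :=
    Groth.L18.SpecLine.generatedBy_of_frames (ι := Fin (n + 1)) T fun x => by
      obtain ⟨i, hi⟩ := Opens.mem_iSup.mp ((Groth.L18.PS.iSup_chart (n := n) (R := R)).ge (trivial : x ∈ ⊤))
      exact ⟨_, i, hi, Groth.L18.PUP.T_frame i⟩
  have hinv : PicF.IsInvertible (O1 n R) := Groth.L16.ProjTwist.isInvertible_twistProjSpace n R 1
  have hT : ∀ j, ∃ c, (T j : Γ(O1 n R, ⊤)) = comb (pr n R) c (fun i => comb (pr n R) (D i) T) :=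
    fun j => ⟨C j, hCD j⟩
  have hT' : ∀ j, ∃ c, (T j : Γ(O1 n R, ⊤)) = comb (pr n R) c (fun i => comb (pr n R) (C i) T) :=
    fun j => ⟨D j, hDC j⟩
  obtain ⟨h, hh, σ, hσ⟩ := Groth.L18.PUP.exists_hom (pr n R) (O1 n R) hinv _ (generatedBy_of_comb _ hgen hT)
  obtain ⟨h', hh', σ', hσ'⟩ := Groth.L18.PUP.exists_hom (pr n R) (O1 n R) hinv _ (generatedBy_of_comb _ hgen hT')
  let i₀ := (Scheme.Modules.pullbackId (P n R)).app (O1 n R)
  have hi₀ : ∀ i, i₀.hom.app ⊤ (rT (𝟙 (P n R)) i) = (T i : Γ(O1 n R, ⊤)) := fun i =>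
    Groth.L16.SectCmp.pullbackId_pull _ _ _
  have e1 : h' ≫ h = 𝟙 _ := comp_eq (pr n R) D hDC h' hh' σ' hσ' (𝟙 _) (Category.id_comp _) i₀ hi₀ h hh σ hσ
  have e2 : h ≫ h' = 𝟙 _ := comp_eq (pr n R) C hCD h hh σ hσ (𝟙 _) (Category.id_comp _) i₀ hi₀ h' hh' σ' hσ'
  exact ⟨h, hh, σ, ⟨h', e2, e1⟩, hσ⟩

end Groth.L24.SB
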