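import Mathlib.CategoryTheory.Limits.Shapes.BinaryBiproducts
import Mathlib.CategoryTheory.Limits.Shapes.Products
import Mathlib.Data.Fintype.Card

/-!
# Splitting a coproduct along a predicate
-/

set_option autoImplicit false

universe v w

open CategoryTheory CategoryTheory.Limits

noncomputable section

namespace Groth.L24.SB

variable {C : Type v} [Category.{w} C] [HasZeroMorphisms C] [HasBinaryBiproducts C]

/-- A finite coproduct splits along a predicate. -/
theorem exists_split_coprod [∀ t : ℕ, HasCoproductsOfShape (Fin t) C] {t : ℕ} (M : Fin t → C) (P : Fin t → Prop) :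
    ∃ (s u : ℕ) (a : Fin s → Fin t) (b : Fin u → Fin t), (∀ x, P (a x)) ∧ (∀ y, ¬ P (b y)) ∧
      Nonempty ((∐ M) ≅ (∐ fun x => M (a x)) ⊞ (∐ fun y => M (b y))) := by
  classical
  let e₁ := (Fintype.equivFin {i // P i}).symm
  let e₂ := (Fintype.equivFin {i // ¬ P i}).symm
  refine ⟨_, _, fun x => (e₁ x).1, fun y => (e₂ y).1, fun x => (e₁ x).2, fun y => (e₂ y).2, ⟨?_⟩⟩
  exact
    { hom := Sigma.desc fun i =>
        if h : P i then eqToHom (by rw [Equiv.apply_symm_apply]) ≫
          Sigma.ι (fun x => M (e₁ x).1) (e₁.symm ⟨i, h⟩) ≫ biprod.inl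
        else eqToHom (by rw [Equiv.apply_symm_apply]) ≫
          Sigma.ι (fun y => M (e₂ y).1) (e₂.symm ⟨i, h⟩) ≫ biprod.inr
      inv := biprod.desc (Sigma.desc fun x => Sigma.ι M (e₁ x).1) (Sigma.desc fun y => Sigma.ι M (e₂ y).1)
      hom_inv_id := Sigma.hom_ext _ _ fun i => by
        rw [Sigma.ι_desc_assoc, Category.comp_id]
        by_cases h : P i
        · rw [dif_pos h]
          simp only [Category.assoc, biprod.inl_desc, Sigma.ι_desc]
          exact Sigma.eqToHom_comp_ι M (congrArg Subtype.val (e₁.apply_symm_apply ⟨i, h⟩)).symm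
        · rw [dif_neg h]
          simp only [Category.assoc, biprod.inr_desc, Sigma.ι_desc]
          exact Sigma.eqToHom_comp_ι M (congrArg Subtype.val (e₂.apply_symm_apply ⟨i, h⟩)).symm
      inv_hom_id := by
        refine biprod.hom_ext' _ _ ?_ ?_
        · rw [biprod.inl_desc_assoc, Category.comp_id]
          refine Sigma.hom_ext _ _ fun x => ?_
          rw [Sigma.ι_desc_assoc, Sigma.ι_desc, dif_pos (e₁ x).2, ← Category.assoc]
          congr 1
          exact Sigma.eqToHom_comp_ι (fun x => M (e₁ x).1) (e₁.symm_apply_apply x).symm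
        · rw [biprod.inr_desc_assoc, Category.comp_id]
          refine Sigma.hom_ext _ _ fun y => ?_
          rw [Sigma.ι_desc_assoc, Sigma.ι_desc, dif_neg (e₂ y).2, ← Category.assoc]
          congr 1
          exact Sigma.eqToHom_comp_ι (fun y => M (e₂ y).1) (e₂.symm_apply_apply y).symm }

end Groth.L24.SB
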