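import Groth.Agent.L24.SB.Index
import Groth.Agent.L24.SB.IdxMod
import Groth.Agent.S0086

/-!
# Line bundles on Severi–Brauer varieties and the period
-/

set_option autoImplicit false
set_option linter.style.haveILetI false
set_option backward.isDefEq.respectTransparency false
set_option backward.isDefEq.respectTransparency.types false

universe u

open CategoryTheory CategoryTheory.Limits AlgebraicGeometry
open scoped TensorProduct

noncomputable section

namespace Groth.L24.SB

variable {k : Type u} [Field k] {X : Scheme.{u}} (f : X ⟶ Spec (CommRingCat.of k))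

/-- A split form of projective space is proper. -/
theorem isProper_of_splitting {d : ℕ} {K : Type u} [Field K] [Algebra k K] (e : BrSev.Splitting f K d) :
    IsProper f := by
  haveI : MorphismProperty.DescendsAlong @IsProper
      (@Surjective ⊓ @Flat ⊓ @QuasiCompact : MorphismProperty Scheme.{u}) := Groth.Agent.S0086.result
  haveI h : IsProper (BrSev.bcTo f K) := by rw [← e.comm]; infer_instance
  have hQ : (@Surjective ⊓ @Flat ⊓ @QuasiCompact : MorphismProperty Scheme.{u})
      (Spec.map (CommRingCat.ofHom (algebraMap k K))) :=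
    ⟨⟨Groth.L03.ShStab.BC.surjective_specMap K, Groth.L03.ShStab.BC.flat_specMap K⟩, inferInstance⟩
  exact MorphismProperty.of_isPullback_of_descendsAlong (P := (@IsProper : MorphismProperty Scheme.{u}))
    (IsPullback.of_hasPullback f (Spec.map (CommRingCat.ofHom (algebraMap k K)))).flip hQ h

/-- Types descend along field extensions. -/
theorem isTwPow_descent [IsProper f] {d : ℕ} {L K : Type u} [Field L] [Field K] [Algebra k L] [Algebra k K]
    [Algebra L K] [IsScalarTower k L K] (eL : BrSev.Splitting f L d) (e : BrSev.Splitting f K d) {M : X.Modules}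
    (hM : FlatMod.IsFinLocFree M) {j : ℤ} {r : ℕ} (h : BrSev.IsTwPow e j r M) : BrSev.IsTwPow eL j r M := by
  letI : (BrSev.bc f L).Over (Spec (CommRingCat.of L)) := ⟨BrSev.bcTo f L⟩
  letI : (BrSev.bc f K).Over (Spec (CommRingCat.of K)) := ⟨BrSev.bcTo f K⟩
  haveI : IsProper (BrSev.bc f L ↘ Spec (CommRingCat.of L)) := inferInstanceAs (IsProper (BrSev.bcTo f L))
  haveI : IsLocallyNoetherian (BrSev.bc f L) :=
    LocallyOfFiniteType.isLocallyNoetherian (BrSev.bc f L ↘ Spec (CommRingCat.of L))
  obtain ⟨t, ht, sqt⟩ := exists_tower f (IsScalarTower.toAlgHom k L K)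
  obtain ⟨a⟩ := h
  obtain ⟨b⟩ := Groth.L24.GalPush.nonempty_twist_iso f eL e (IsScalarTower.toAlgHom k L K) t sqt j
  haveI := (Scheme.Modules.pullbackPushforwardAdjunction t).leftAdjoint_preservesColimits
  haveI : PreservesColimitsOfSize.{0, 0} (Scheme.Modules.pullback t) :=
    preservesColimitsOfSize_shrink.{0, u, 0, u} _
  exact Groth.L24.KrullSchmidt.nonempty_iso_of_pullback_iso (k := L) (K := K) t sqt _
    (F := (Scheme.Modules.pullback (BrSev.proj f L)).obj M) (G := BrSev.pow (eL.twist j) r)
    (Groth.L16.NegPow.isCoh_of_isFinLocFree (Groth.L29.LocFree.pullback _ hM))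
    (Groth.L16.NegPow.isCoh_of_isFinLocFree (Groth.L29.DC.isFinLocFree_coprod_fin _ _ fun _ =>
      Groth.L16.Existence.isFinLocFree_of_isInvertible (Groth.L24.GalPush.isInvertible_twist f eL j))) rfl
    ((Scheme.Modules.pullbackComp t (BrSev.proj f L)).app M ≪≫ (Scheme.Modules.pullbackCongr ht).app M ≪≫ a ≪≫
      (PreservesCoproduct.iso (Scheme.Modules.pullback t) (fun _ : Fin r => eL.twist j) ≪≫
        Sigma.mapIso fun _ => b).symm)

variable {A : Type u} [Ring A] [Algebra k A] [Algebra.IsCentral k A] [IsSimpleRing A]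
  {n : ℕ} (hn : 0 < n) (hA : Module.finrank k A = n * n) (hX : BrSev.IsSBOf k A (n * n - n) f)
  {K : Type u} [Field K] [Algebra k K] [FiniteDimensional k K] [Algebra.IsSeparable k K]
  (e : BrSev.Splitting f K (n - 1))

include hn hA hX in
/-- The type of a line bundle is a multiple of the period. -/
theorem dvd_of_line {d : ℕ} (hd : CSAGal.IsPeriod k A d) {j : ℤ} {L : X.Modules} (hL : PicF.IsInvertible L)
    (hLt : BrSev.IsTwPow e j 1 L) : (d : ℤ) ∣ j := by
  haveI := isProper_of_splitting f e
  haveI : FiniteDimensional k A := Module.finite_of_finrank_pos (by rw [hA]; exact Nat.mul_pos hn hn)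
  let Ω := AlgebraicClosure K
  haveI : Algebra.IsAlgebraic k Ω := Algebra.IsAlgebraic.trans k K Ω
  haveI : IsAlgClosure k Ω := ⟨inferInstance, inferInstance⟩
  obtain ⟨eΩ⟩ := exists_splitting_ext f (IsScalarTower.toAlgHom k K Ω) e
  haveI := (Groth.L11.SBStable.props_of_splitting f e).1
  obtain ⟨L', -, ⟨t⟩⟩ := Groth.L08.Cube.exists_inverse hL
  have hi := isIndex_type hn hA f hX eΩ L (Groth.L16.Existence.isFinLocFree_of_isInvertible hL)
    (Groth.L24.KrullSchmidt.indec_of_connected t) j 1 one_pos (isTwPow_bc f (IsScalarTower.toAlgHom k K Ω) e eΩ hLt)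
  obtain ⟨_, _, _⟩ := Groth.L11.TPow.csa k A j.natAbs
  have hs : Curves.Splits k (CSAGal.tpow k A j.natAbs) k := Groth.L11.Br.splits_of_beq
    (Groth.L11.Br.BEq.of_algEquiv Groth.L11.Idx.oneEquiv.symm) k (Groth.L11.Idx.splits_tpow_index hi)
  exact Int.natCast_dvd.mpr ((Groth.L11.Idx.splits_tpow_iff_dvd hd _).mp hs)

include hn hA hX in
/-- Every multiple of the period is the type of a line bundle. -/
theorem exists_line {d : ℕ} (hd : CSAGal.IsPeriod k A d) {j : ℤ} (hj : (d : ℤ) ∣ j) :
    ∃ L : X.Modules, PicF.IsInvertible L ∧ BrSev.IsTwPow e j 1 L := by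
  haveI := isProper_of_splitting f e
  haveI : FiniteDimensional k A := Module.finite_of_finrank_pos (by rw [hA]; exact Nat.mul_pos hn hn)
  let Ω := AlgebraicClosure K
  haveI : Algebra.IsAlgebraic k Ω := Algebra.IsAlgebraic.trans k K Ω
  haveI : IsAlgClosure k Ω := ⟨inferInstance, inferInstance⟩
  obtain ⟨eΩ⟩ := exists_splitting_ext f (IsScalarTower.toAlgHom k K Ω) e
  obtain ⟨W, r, hW, hWi, hr, hWt⟩ := Groth.L24.GalPush.exists_indec_twPow f e eΩ j
  obtain rfl : r = 1 := index_eq_one_of_splits
    ((Groth.L11.Idx.splits_tpow_iff_dvd hd _).mpr (Int.natCast_dvd.mp hj))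
    (isIndex_type hn hA f hX eΩ W hW hWi j r hr hWt)
  refine ⟨W, ?_, isTwPow_descent f e eΩ hW hWt⟩
  obtain ⟨b⟩ := hWt
  haveI : Surjective (BrSev.proj f Ω) := MorphismProperty.of_isPullback (P := @Surjective)
    (IsPullback.of_hasPullback f (Spec.map (CommRingCat.ofHom (algebraMap k Ω)))).flip
    (Groth.L03.ShStab.BC.surjective_specMap Ω)
  exact isInvertible_of_pullback_invertible (BrSev.proj f Ω) hW
    (Groth.L18.Ample.isInvertible_of_iso (b ≪≫ coproductUniqueIso _).symm
      (Groth.L24.GalPush.isInvertible_twist f eΩ _))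

end Groth.L24.SB
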